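import Groth.Agent.H81.ProjClosed.FinType

/-!
# The forms over an open not meeting the closed subscheme
-/

set_option autoImplicit false
set_option backward.isDefEq.respectTransparency.types false
universe u v

open CategoryTheory CategoryTheory.Limits AlgebraicGeometry TopologicalSpace Opposite HomogeneousLocalization
open Groth.Agent.Lib
open Groth.Agent.Lib.QCAlgSub.Basic (jm st rs)

noncomputable section

namespace Groth.Agent.H81.ProjClosed

variable {S P Z : Scheme.{u}} (𝒜 : RelProj.QCGrAlg S) (p : P ⟶ S)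
  (chart : ∀ (U : S.Opens) (hU : IsAffineOpen U), (((p ⁻¹ᵁ U : P.Opens) : Scheme.{u}) ≅ Proj (𝒜.deg U hU)))

theorem J_eq_top (i : Z ⟶ P) [IsClosedImmersion i] {W : S.Opens} (hW : IsAffineOpen W)
    (hd : ∀ z : Z, (i ≫ p).base z ∉ W) : J 𝒜 p chart i.ker W hW = ⊤ := by
  have hI : ∀ t : Sat.Hom (𝒜.deg W hW), chartIdeal 𝒜 p chart i.ker W hW t = ⊤ := fun t => by
    haveI : IsEmpty ↑(pullback (ProjQ.std p chart W hW t.pos t.f t.mem) i) := ⟨fun z => by
      refine hd ((pullback.snd (ProjQ.std p chart W hW t.pos t.f t.mem) i) z) ?_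
      obtain ⟨w, -, hw⟩ := (ProjQ.opensRange_std (p := p) (chart := chart) W hW t.pos t.f t.mem).le
        ⟨(pullback.fst (ProjQ.std p chart W hW t.pos t.f t.mem) i) z, rfl⟩
      have h2 : i ((pullback.snd (ProjQ.std p chart W hW t.pos t.f t.mem) i) z) = (RelProj.emb p chart W hW) w :=
        (congr($((pullback.condition (f := ProjQ.std p chart W hW t.pos t.f t.mem) (g := i)).symm) z)).trans hw.symm
      show p (i _) ∈ W
      rw [h2]
      exact (ProjQ.opensRange_emb (p := p) (chart := chart) W hW).le ⟨w, rfl⟩⟩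
    rw [chartIdeal, ← Scheme.IdealSheafData.ker_fst_of_isClosedImmersion,
      Scheme.ker_eq_top_of_isEmpty, topIdeal, show (⊤ : (Spec _).IdealSheafData).ideal _ = ⊤ from rfl]
    exact Ideal.map_top _
  refine eq_top_iff.2 fun x _ => (fam 𝒜 p chart i.ker W hW).mem_J_iff.2 fun t => ?_
  show algebraMap _ _ x ∈ (chartIdeal 𝒜 p chart i.ker W hW t).map _
  rw [hI t, Ideal.map_top]
  exact Submodule.mem_top

theorem subset_range_of_cover {F : S.Modules} (hq : Coh.IsQCoh F) (ι : F ⟶ 𝒜.toModule) (d : ℕ)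
    {κ : Type v} (V : κ → S.affineOpens)
    (hgen : ∀ k, ∀ a ∈ 𝒜.deg (V k).1 (V k).2 d, ∃ b : Γ(F, (V k).1), jm 𝒜.toQCAlg ι (V k).1 b = a)
    {W : S.Opens} (hW : IsAffineOpen W) (hcov : ∀ y ∈ W, ∃ k, y ∈ (V k).1)
    {x : 𝒜.presheaf.obj (op W)} (hx : x ∈ 𝒜.deg W hW d) : ∃ b : Γ(F, W), jm 𝒜.toQCAlg ι W b = x := by
  haveI : F.IsQuasicoherent := hq
  let C : Ideal Γ(S, W) :=
    { carrier := {r | ∃ b : Γ(F, W), jm 𝒜.toQCAlg ι W b = st 𝒜.toQCAlg W r * x}
      zero_mem' := ⟨0, by rw [map_zero, zero_mul]; exact map_zero (ι.app W).hom⟩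
      add_mem' := fun {a a'} ⟨b, hb⟩ ⟨b', hb'⟩ => ⟨b + b', by
        rw [map_add, add_mul, ← hb, ← hb']; exact map_add (ι.app W).hom b b'⟩
      smul_mem' := fun c a ⟨b, hb⟩ => ⟨c • b, by
        refine (Scheme.Modules.Hom.app_smul ι c b).trans ?_
        show st 𝒜.toQCAlg W c * jm 𝒜.toQCAlg ι W b = _
        rw [hb, smul_eq_mul, map_mul, mul_assoc]⟩ }
  suffices h1 : (1 : Γ(S, W)) ∈ C by
    obtain ⟨b, hb⟩ := h1
    exact ⟨b, by rw [hb, map_one, one_mul]⟩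
  have hcov' : ∀ y ∈ W, ∃ r ∈ C.radical, y ∈ S.basicOpen r := by
    intro y hy
    obtain ⟨k, hk⟩ := hcov y hy
    obtain ⟨r, r', e, hmem⟩ := exists_basicOpen_le_affine_inter hW (V k).2 y ⟨hy, hk⟩
    refine ⟨r, ?_, hmem⟩
    have key : ∀ (D : S.Opens), D = S.basicOpen r' → ∀ (hD : IsAffineOpen D) (i : D ≤ W),
        ∃ s : Γ(F, D), jm 𝒜.toQCAlg ι D s = rs 𝒜.toQCAlg i x := by
      rintro _ rfl hD i
      obtain ⟨n, a, ha, he⟩ := (H81.RelProj.Chart.isLocHom 𝒜 (V k).2 r').exists_homogeneous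
        (𝒜.map_mem hW hD i hx)
      obtain ⟨b, hb⟩ := hgen k a ha
      have hu : IsUnit (QCoh.Localizing.resR (S.basicOpen_le r') r') :=
        RingedSpace.isUnit_res_basicOpen _ r'
      obtain ⟨u, hu'⟩ := hu
      refine ⟨((↑u⁻¹ : Γ(S, S.basicOpen r')) ^ n) • QCoh.Localizing.res F (S.basicOpen_le r') b, ?_⟩
      refine (Scheme.Modules.Hom.app_smul ι _ _).trans ?_
      show st 𝒜.toQCAlg _ ((↑u⁻¹ : Γ(S, S.basicOpen r')) ^ n) *
          jm 𝒜.toQCAlg ι _ (QCoh.Localizing.res F (S.basicOpen_le r') b) = _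
      have h2 : jm 𝒜.toQCAlg ι _ (QCoh.Localizing.res F (S.basicOpen_le r') b) =
          rs 𝒜.toQCAlg (S.basicOpen_le r') a := by
        rw [← hb]; exact (rs_ι 𝒜 ι (S.basicOpen_le r') b).symm
      have h3 : rs 𝒜.toQCAlg i x * st 𝒜.toQCAlg _ (QCoh.Localizing.resR (S.basicOpen_le r') r') ^ n =
          rs 𝒜.toQCAlg (S.basicOpen_le r') a := by
        rw [← QCAlgSub.Basic.rs_st]; exact he
      rw [h2, ← h3, ← hu', ← map_pow, mul_left_comm, ← map_mul, ← mul_pow, Units.inv_mul, one_pow, map_one, mul_one]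
    obtain ⟨s, hs⟩ := key (S.basicOpen r) e (hW.basicOpen r) (S.basicOpen_le r)
    obtain ⟨n, t, ht⟩ := (QCoh.Localizing.localizes_of_isAffineOpen F hW r).ext' s
    have h4 : rs 𝒜.toQCAlg (S.basicOpen_le r) (jm 𝒜.toQCAlg ι W t) =
        rs 𝒜.toQCAlg (S.basicOpen_le r) (st 𝒜.toQCAlg W r ^ n * x) := by
      rw [map_mul, map_pow, QCAlgSub.Basic.rs_st, ← hs, ← map_pow]
      refine (rs_ι 𝒜 ι (S.basicOpen_le r) t).trans ?_
      rw [ht]
      exact Scheme.Modules.Hom.app_smul ι _ s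
    obtain ⟨m, hm⟩ := QCAlgSub.Basic.exists_pow_mul_eq 𝒜.toQCAlg hW r h4
    refine ⟨m + n, r ^ m • t, ?_⟩
    refine (Scheme.Modules.Hom.app_smul ι (r ^ m) t).trans ?_
    show st 𝒜.toQCAlg W (r ^ m) * jm 𝒜.toQCAlg ι W t = _
    rw [map_pow, map_pow, hm, ← mul_assoc, ← pow_add]
  have hrad : C.radical = ⊤ := by
    refine (eq_top_iff.2 fun r _ => ?_)
    have hspan : Ideal.span (C.radical : Set Γ(S, W)) = ⊤ := by
      refine hW.self_le_iSup_basicOpen_iff.1 fun y hy => ?_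
      obtain ⟨r', hr', hy'⟩ := hcov' y hy
      exact Opens.mem_iSup.2 ⟨⟨r', hr'⟩, hy'⟩
    rw [Ideal.span_eq] at hspan
    rw [hspan]; exact Submodule.mem_top
  rw [Ideal.radical_eq_top] at hrad
  rw [hrad]; exact Submodule.mem_top

end Groth.Agent.H81.ProjClosed
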