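import Groth.Agent.H81.ProjClosed.Gens

/-!
# A finitely presented closed subscheme of a relative Proj is cut out by finitely many forms of one degree
-/

set_option autoImplicit false
set_option backward.isDefEq.respectTransparency.types false
universe u v

open CategoryTheory CategoryTheory.Limits AlgebraicGeometry TopologicalSpace Opposite HomogeneousLocalization
open scoped HomogeneousIdeal
open Groth.Agent.Lib

noncomputable section

namespace Groth.Agent.H81.ProjClosed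

variable {S P Z : Scheme.{u}} (𝒜 : RelProj.QCGrAlg S) (p : P ⟶ S)
  (chart : ∀ (U : S.Opens) (hU : IsAffineOpen U), (((p ⁻¹ᵁ U : P.Opens) : Scheme.{u}) ≅ Proj (𝒜.deg U hU)))
  (hP : RelProj.IsRelProj 𝒜 p chart)

include hP in
theorem exists_iso (ℬ : RelProj.QCGrAlg S) (φ : 𝒜.toQCAlg ⟶ ℬ.toQCAlg) (hφ : RelProj.IsGradedHom φ)
    (hs : ∀ U : S.Opens, IsAffineOpen U → Function.Surjective (φ.hom.app (op U)).hom)
    (i : Z ⟶ P) [IsClosedImmersion i] {κ : Type v} (W : κ → S.affineOpens)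
    (t : ∀ k, Sat.Hom (𝒜.deg (W k).1 (W k).2))
    (hcov : ∀ x : P, ∃ k, x ∈ (ProjQ.std p chart (W k).1 (W k).2 (t k).pos (t k).f (t k).mem).opensRange)
    (hker : ∀ k, RingHom.ker (Away.map (RelProj.gradedHomAt φ hφ (W k).1 (W k).2) (t k).f) =
      chartIdeal 𝒜 p chart i.ker (W k).1 (W k).2 (t k)) :
    ∃ (PB : Scheme.{u}) (pB : PB ⟶ S)
      (chartB : ∀ (U : S.Opens) (hU : IsAffineOpen U), (((pB ⁻¹ᵁ U : PB.Opens) : Scheme.{u}) ≅ Proj (ℬ.deg U hU)))
      (h : PB ⟶ P) (e : PB ≅ Z),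
      RelProj.IsRelProj ℬ pB chartB ∧ RelProj.IsProjQMap (RelProj.QGrHom.ofHom φ hφ) p chart pB chartB h ∧
        e.hom ≫ i = h := by
  obtain ⟨PB, pB, chartB, hPB⟩ := S8258.result ℬ
  obtain ⟨h, hh⟩ := ProjQ.exists_isProjQMap (chart := chart) (u := RelProj.QGrHom.ofHom φ hφ)
    (domQ_top 𝒜 φ hφ hs (pB := pB) (chartB := chartB)) hP hPB
  haveI := isClosedImmersion 𝒜 p chart φ hφ hP hPB hs hh
  have hk : h.ker = i.ker := eq_of_topIdeal_comap
    (fun k => ProjQ.std p chart (W k).1 (W k).2 (t k).pos (t k).f (t k).mem) hcov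
    fun k => (topIdeal_comap_std 𝒜 p chart φ hφ hP hPB hh (W k).1 (W k).2 (t k)).trans (hker k)
  haveI : IsIso (IsClosedImmersion.lift i h hk.ge) := IsClosedImmersion.isIso_lift i h hk.symm
  exact ⟨PB, pB, chartB, h, asIso (IsClosedImmersion.lift i h hk.ge), hPB, hh, IsClosedImmersion.lift_fac _ _ _⟩

variable [QuasiCompact p]

include hP in
/-- Finitely many forms of one degree, with prescribed extra forms. -/
theorem exists_finiteType [CompactSpace S] [QuasiSeparatedSpace S]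
    (i : Z ⟶ P) [IsClosedImmersion i] [LocallyOfFinitePresentation i]
    (μ : ℕ → Type u) [∀ d, Finite (μ d)] (V : ∀ d, μ d → S.affineOpens)
    (x : ∀ d (l : μ d), 𝒜.presheaf.obj (op (V d l).1))
    (hx : ∀ d l, x d l ∈ 𝒜.deg (V d l).1 (V d l).2 d)
    (hxJ : ∀ d l, x d l ∈ J 𝒜 p chart i.ker (V d l).1 (V d l).2) :
    ∃ (d : ℕ) (_ : 0 < d) (F : S.Modules) (_ : Coh.IsQCoh F) (_ : CohB1.IsFT F) (ι : F ⟶ 𝒜.toModule)
      (_ : ∀ (U : S.Opens) (hU : IsAffineOpen U) (y : Γ(F, U)), (ι.app U) y ∈ 𝒜.deg U hU d)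
      (ℬ : RelProj.QCGrAlg S) (φ : 𝒜.toQCAlg ⟶ ℬ.toQCAlg) (hφ : RelProj.IsGradedHom φ) (PB : Scheme.{u})
      (pB : PB ⟶ S) (chartB : ∀ (U : S.Opens) (hU : IsAffineOpen U), (((pB ⁻¹ᵁ U : PB.Opens) : Scheme.{u}) ≅ Proj (ℬ.deg U hU)))
      (h : PB ⟶ P) (e : PB ≅ Z),
      (∀ (U : S.Opens), IsAffineOpen U → Function.Surjective (φ.hom.app (op U)).hom ∧
          RingHom.ker (φ.hom.app (op U)).hom = (Ideal.span (Set.range (ι.app U)) : Ideal (𝒜.presheaf.obj (op U)))) ∧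
        RelProj.IsRelProj ℬ pB chartB ∧ RelProj.IsProjQMap (RelProj.QGrHom.ofHom φ hφ) p chart pB chartB h ∧
        e.hom ≫ i = h ∧
        ∀ l : μ d, x d l ∈ Set.range (fun y : Γ(F, (V d l).1) => ((ι.app (V d l).1) y : 𝒜.presheaf.obj (op (V d l).1))) := by
  classical
  obtain ⟨κ, hκ, W, t, hcov⟩ := exists_cover 𝒜 p chart
  have hfg : ∀ k, (chartIdeal 𝒜 p chart i.ker (W k).1 (W k).2 (t k)).FG := fun k => topIdeal_comap_fg i _
  choose M hM using fun k => exists_gens 𝒜 p chart i.ker (W k).1 (W k).2 (t k) (hfg k)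
  haveI := Fintype.ofFinite κ
  let E : ℕ := ∏ k, (t k).e
  have hE : 0 < E := Finset.prod_pos fun k _ => (t k).pos
  let d : ℕ := E * (Finset.univ.sup M + 1)
  let m : κ → ℕ := fun k => (E / (t k).e) * (Finset.univ.sup M + 1)
  have hdvd : ∀ k, (t k).e ∣ E := fun k => Finset.dvd_prod_of_mem _ (Finset.mem_univ k)
  have hmd : ∀ k, m k • (t k).e = d := fun k => by
    show E / (t k).e * _ * (t k).e = _
    rw [mul_right_comm, Nat.div_mul_cancel (hdvd k)]
  have hmM : ∀ k, M k ≤ m k := fun k =>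
    ((Finset.le_sup (Finset.mem_univ k)).trans (Nat.le_succ _)).trans
      (Nat.le_mul_of_pos_left _ (Nat.div_pos (Nat.le_of_dvd hE (hdvd k)) (t k).pos))
  choose G hG hspan using fun k => hM k (m k) (hmM k)
  let μ' : Type u := (Σ k : κ, (G k : Set (𝒜.presheaf.obj (op (W k).1)))) ⊕ μ d
  let V' : μ' → S.affineOpens := Sum.elim (fun l => W l.1) (V d)
  let x' : ∀ l : μ', 𝒜.presheaf.obj (op (V' l).1) := fun l => match l with
    | Sum.inl l => l.2.1
    | Sum.inr l => x d l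
  obtain ⟨F, hq, hft, ι, hι, hιJ, hmem⟩ := exists_sub 𝒜 p chart hP i.ker d V' x'
    (fun l => match l with
      | Sum.inl l => Eq.subst (motive := fun n => l.2.1 ∈ 𝒜.deg (W l.1).1 (W l.1).2 n) (hmd l.1) (hG l.1 _ l.2.2).1
      | Sum.inr l => hx d l)
    (fun l => match l with
      | Sum.inl l => (hG l.1 _ l.2.2).2
      | Sum.inr l => hxJ d l)
  obtain ⟨Q, hQ⟩ := exists_spanIdeals 𝒜 hq ι hι
  have hφ : RelProj.IsGradedHom (ℬ := quotAlg Q) (projHom Q) := isGradedHom Q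
  have hkerφ : ∀ (U : S.Opens) (hU : IsAffineOpen U),
      RingHom.ker ((projHom Q).hom.app (op U)).hom = (Ideal.span (Set.range (ι.app U)) : Ideal (𝒜.presheaf.obj (op U))) :=
    fun U hU => (ker_projPre Q U hU).trans (hQ U hU)
  obtain ⟨PB, pB, chartB, h, e, h1, h2, h3⟩ :=
    exists_iso 𝒜 p chart hP (quotAlg Q) (projHom Q) hφ (projPre_surjective Q) i W t hcov fun k => by
      refine le_antisymm (fun z hz => ?_) ((hspan k).trans (Ideal.span_le.2 ?_))
      · obtain ⟨n, a, ha, rfl⟩ := Away.mk_surjective (𝒜.deg (W k).1 (W k).2) (t k).mem z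
        have h' := congrArg HomogeneousLocalization.val (RingHom.mem_ker.1 hz)
        rw [Away.map_mk, Away.val_mk, val_zero, Localization.mk_eq_mk', IsLocalization.mk'_eq_zero_iff] at h'
        obtain ⟨⟨_, N, rfl⟩, hN⟩ := h'
        change RelProj.gradedHomAt (ℬ := quotAlg Q) (projHom Q) hφ (W k).1 (W k).2 (t k).f ^ N * _ = 0 at hN
        rw [← map_pow, ← map_mul] at hN
        have hN' : (t k).f ^ N * a ∈ RingHom.ker ((projHom Q).hom.app (op (W k).1)).hom := hN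
        rw [hkerφ (W k).1 (W k).2] at hN'
        have hle : (Ideal.span (Set.range (ι.app (W k).1)) : Ideal (𝒜.presheaf.obj (op (W k).1))) ≤
            J 𝒜 p chart i.ker (W k).1 (W k).2 :=
          Ideal.span_le.2 (by rintro _ ⟨y, rfl⟩; exact hιJ (W k).1 (W k).2 y)
        exact Sat.mk_mem_of_mem_Jf (t k).mem _ (t k).pos ha (Sat.mem_Jf_of_mul_mem _ N
          ((fam 𝒜 p chart i.ker (W k).1 (W k).2).mem_J_iff.1 (hle hN') (t k)))
      · rintro _ ⟨g, hg, hgG, rfl⟩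
        have hg0 : g ∈ RingHom.ker ((projHom Q).hom.app (op (W k).1)).hom := by
          rw [hkerφ (W k).1 (W k).2]
          obtain ⟨y, hy⟩ := hmem (Sum.inl ⟨k, ⟨g, hgG⟩⟩)
          exact Ideal.subset_span ⟨y, hy⟩
        show Away.map _ _ _ = 0
        apply HomogeneousLocalization.val_injective
        rw [Away.map_mk, Away.val_mk, val_zero,
          show RelProj.gradedHomAt (ℬ := quotAlg Q) (projHom Q) hφ (W k).1 (W k).2 g = 0 from hg0, Localization.mk_zero]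
  exact ⟨d, Nat.mul_pos hE (Nat.succ_pos _), F, hq, hft, ι, hι, quotAlg Q, projHom Q, hφ, PB, pB, chartB, h, e,
    fun U hU => ⟨projPre_surjective Q U hU, hkerφ U hU⟩, h1, h2, h3, fun l => hmem (Sum.inr l)⟩

end Groth.Agent.H81.ProjClosed
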