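import Groth.Agent.H81.ProjClosed.Main
import Groth.Agent.H81.VeryAmple.GrSub
import Groth.Agent.Lib.CohDelta.FPApprox.Sections
import Groth.Agent.Lib.ClSub.Sections
import Mathlib.AlgebraicGeometry.Morphisms.FinitePresentation

/-!
# Finite type generators of the ideal of a finitely presented closed subscheme of a relative Proj
-/

set_option autoImplicit false
set_option backward.isDefEq.respectTransparency.types false
universe u v

open CategoryTheory CategoryTheory.Limits AlgebraicGeometry TopologicalSpace Opposite HomogeneousLocalization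
open scoped HomogeneousIdeal
open Groth.Agent.Lib
open Groth.Agent.Lib.QCAlgSub.Basic (jm st rs isQuasicoherent_toModule exists_pow_mul_eq)
open Groth.Agent.Lib.CohDelta.IdealMul.Sec (appL)

noncomputable section

namespace Groth.Agent.H81.ProjClosed

theorem exists_mem_of_radical {A σ : Type u} [CommRing A] [SetLike σ A] [AddSubgroupClass σ A] {𝒜 : ℕ → σ}
    [GradedRing 𝒜] {T : Set (Sat.Hom 𝒜)}
    (hT : ∀ t : Sat.Hom 𝒜, t.f ∈ (Ideal.span ((fun s => s.f) '' T)).radical) (x : ProjectiveSpectrum 𝒜) :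
    ∃ s ∈ T, s.f ∉ x.asHomogeneousIdeal := by
  by_contra! h
  refine x.not_irrelevant_le ((HomogeneousIdeal.irrelevant_le _).2 fun n hn a ha => ?_)
  haveI := x.isPrime
  have h2 : Ideal.span ((fun s : Sat.Hom 𝒜 => s.f) '' T) ≤ x.asHomogeneousIdeal.toIdeal :=
    Ideal.span_le.2 (by rintro _ ⟨s, hs, rfl⟩; exact h s hs)
  exact (Ideal.IsPrime.radical_le_iff x.isPrime).2 h2 (hT ⟨n, hn, a, ha⟩)

/-- The chart ideals of a finitely presented closed immersion are finitely generated. -/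
theorem topIdeal_comap_fg {Z P : Scheme.{u}} (i : Z ⟶ P) [IsClosedImmersion i] [LocallyOfFinitePresentation i]
    {R : CommRingCat.{u}} (j : Spec R ⟶ P) : (topIdeal (i.ker.comap j)).FG := by
  rw [← Scheme.IdealSheafData.ker_fst_of_isClosedImmersion, topIdeal, Scheme.Hom.ker_apply]
  haveI : IsAffine (pullback j i) := isAffine_of_isAffineHom (pullback.fst j i)
  have hfp : (pullback.fst j i).appTop.hom.FinitePresentation :=
    (HasRingHomProperty.iff_of_isAffine (P := @LocallyOfFinitePresentation)).mp inferInstance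
  refine Ideal.FG.map ?_ _
  algebraize [(pullback.fst j i).appTop.hom]
  exact Algebra.FinitePresentation.ker_fG_of_surjective
    (Algebra.ofId Γ(Spec R, ⊤) Γ(pullback j i, ⊤))
    ((pullback.fst j i).app_surjective ⊤ (isAffineOpen_top _))

variable {S P Z : Scheme.{u}} (𝒜 : RelProj.QCGrAlg S) (p : P ⟶ S)
  (chart : ∀ (U : S.Opens) (hU : IsAffineOpen U), (((p ⁻¹ᵁ U : P.Opens) : Scheme.{u}) ≅ Proj (𝒜.deg U hU)))
  (hP : RelProj.IsRelProj 𝒜 p chart) (K : P.IdealSheafData) [QuasiCompact p]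

/-- Generators of a chart ideal in every large degree. -/
theorem exists_gens (U : S.Opens) (hU : IsAffineOpen U) (t : Sat.Hom (𝒜.deg U hU))
    (hfg : (chartIdeal 𝒜 p chart K U hU t).FG) :
    ∃ M : ℕ, ∀ m, M ≤ m → ∃ G : Finset (𝒜.presheaf.obj (op U)),
      (∀ g ∈ G, g ∈ 𝒜.deg U hU (m • t.e) ∧ g ∈ J 𝒜 p chart K U hU) ∧
      chartIdeal 𝒜 p chart K U hU t ≤
        Ideal.span {z | ∃ (g : 𝒜.presheaf.obj (op U)) (hg : g ∈ 𝒜.deg U hU (m • t.e)),
          g ∈ G ∧ Away.mk (𝒜.deg U hU) t.mem m g hg = z} := by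
  classical
  obtain ⟨G₀, hG₀⟩ := hfg
  have key : ∀ z ∈ G₀, ∃ M : ℕ, ∀ m, M ≤ m → ∃ (g : 𝒜.presheaf.obj (op U)) (hg : g ∈ 𝒜.deg U hU (m • t.e)),
      g ∈ J 𝒜 p chart K U hU ∧ Away.mk (𝒜.deg U hU) t.mem m g hg = z := fun z hz => by
    obtain ⟨k, a, ha, rfl⟩ := Away.mk_surjective (𝒜.deg U hU) t.mem z
    have hI : Away.mk (𝒜.deg U hU) t.mem k a ha ∈ chartIdeal 𝒜 p chart K U hU t := hG₀ ▸ Ideal.subset_span hz
    obtain ⟨n, hn⟩ := exists_pow_mul_mem 𝒜 p chart K hU t (Sat.mem_Jf_of_mk t.mem _ ha hI)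
    refine ⟨k + n, fun m hm => ?_⟩
    obtain ⟨l, rfl⟩ := Nat.exists_eq_add_of_le hm
    have hg : t.f ^ (n + l) * a ∈ 𝒜.deg U hU ((k + n + l) • t.e) := by
      rw [show k + n + l = (n + l) + k by omega, add_smul]
      exact SetLike.mul_mem_graded (SetLike.pow_mem_graded _ t.mem) ha
    refine ⟨_, hg, ?_, ?_⟩
    · rw [pow_add, mul_comm (t.f ^ n), mul_assoc]
      exact Ideal.mul_mem_left _ _ hn
    · apply HomogeneousLocalization.val_injective
      rw [Away.val_mk, Away.val_mk, Localization.mk_eq_mk_iff, Localization.r_iff_exists]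
      exact ⟨1, by simp [pow_add]; ring⟩
  choose! M hM using key
  refine ⟨G₀.sup M, fun m hm => ?_⟩
  choose g hg hgJ hgz using fun z : G₀ => hM z.1 z.2 m ((Finset.le_sup z.2).trans hm)
  refine ⟨Finset.univ.image g, fun x hx => ?_, ?_⟩
  · obtain ⟨z, -, rfl⟩ := Finset.mem_image.1 hx
    exact ⟨hg z, hgJ z⟩
  · rw [← hG₀]
    exact Ideal.span_le.2 fun z hz => Ideal.subset_span
      ⟨g ⟨z, hz⟩, hg ⟨z, hz⟩, Finset.mem_image_of_mem _ (Finset.mem_univ _), hgz ⟨z, hz⟩⟩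

/-- A finite family of standard charts covering the relative Proj. -/
theorem exists_cover [CompactSpace S] :
    ∃ (κ : Type u) (_ : Finite κ) (W : κ → S.affineOpens) (t : ∀ k, Sat.Hom (𝒜.deg (W k).1 (W k).2)),
      ∀ x : P, ∃ k, x ∈ (ProjQ.std p chart (W k).1 (W k).2 (t k).pos (t k).f (t k).mem).opensRange := by
  classical
  obtain ⟨s, hs⟩ := isCompact_univ.elim_finite_subcover (fun U : S.affineOpens => ((U.1 : S.Opens) : Set S))
    (fun U => U.1.2) fun x _ => by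
      obtain ⟨U, hU, hx, -⟩ := exists_isAffineOpen_mem_and_subset (X := S) (U := ⊤) (x := x) trivial
      exact Set.mem_iUnion.2 ⟨⟨U, hU⟩, hx⟩
  choose T hT using fun U : S.affineOpens =>
    haveI := compactSpace_proj 𝒜 p chart U.1 U.2
    Quot.exists_finset_cover (𝒜 := 𝒜.deg U.1 U.2)
  refine ⟨Σ U : (s : Set S.affineOpens), (T U.1 : Set (Sat.Hom (𝒜.deg U.1.1 U.1.2))), inferInstance,
    fun k => k.1.1, fun k => k.2.1, fun x => ?_⟩
  obtain ⟨U, hUs, hxU⟩ := Set.mem_iUnion₂.1 (hs (Set.mem_univ (p x)))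
  obtain ⟨w, hw⟩ := (ProjQ.opensRange_emb (p := p) (chart := chart) U.1 U.2).ge (show x ∈ p ⁻¹ᵁ U.1 from hxU)
  obtain ⟨t, htT, htw⟩ := exists_mem_of_radical (hT U) w
  exact ⟨⟨⟨U, hUs⟩, ⟨t, htT⟩⟩, (ProjQ.opensRange_std U.1 U.2 t.pos t.f t.mem).ge ⟨w, htw, hw⟩⟩

include hP in
/-- A finite type module in degree `d` inside the ideal, through given sections. -/
theorem exists_sub [CompactSpace S] [QuasiSeparatedSpace S] (d : ℕ) {μ : Type v} [Finite μ]
    (W : μ → S.affineOpens) (x : ∀ l, 𝒜.presheaf.obj (op (W l).1))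
    (hx : ∀ l, x l ∈ 𝒜.deg (W l).1 (W l).2 d) (hxJ : ∀ l, x l ∈ J 𝒜 p chart K (W l).1 (W l).2) :
    ∃ (F : S.Modules) (_ : Coh.IsQCoh F) (_ : CohB1.IsFT F) (ι : F ⟶ 𝒜.toModule),
      (∀ (U : S.Opens) (hU : IsAffineOpen U) (y : Γ(F, U)), (ι.app U) y ∈ 𝒜.deg U hU d) ∧
      (∀ (U : S.Opens) (hU : IsAffineOpen U) (y : Γ(F, U)),
        ((ι.app U) y : 𝒜.presheaf.obj (op U)) ∈ J 𝒜 p chart K U hU) ∧
      ∀ l, x l ∈ Set.range (fun y : Γ(F, (W l).1) => ((ι.app (W l).1) y : 𝒜.presheaf.obj (op (W l).1))) := by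
  classical
  obtain ⟨π, hπ⟩ := H81.VeryAmple.GrSub.exists_proj 𝒜 d
  let Q := ideals 𝒜 p chart hP K
  let m : 𝒜.toModule ⟶ (quotAlg Q).toModule := RelSpec.QCAlg.Hom.toModuleMap (projHom Q)
  haveI hqA : 𝒜.toModule.IsQuasicoherent := isQuasicoherent_toModule 𝒜.toQCAlg
  haveI hqB : (quotAlg Q).toModule.IsQuasicoherent := isQuasicoherent_toModule (quotAlg Q).toQCAlg
  haveI : (kernel (π ≫ m)).IsQuasicoherent := QCoh.Closure.isQCoh_kernel (π ≫ m)
  have hker : ∀ (U : S.Opens) (hU : IsAffineOpen U) (a : 𝒜.presheaf.obj (op U)),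
      ((projPre Q).app (op U)).hom a = 0 ↔ a ∈ J 𝒜 p chart K U hU := fun U hU a =>
    RingHom.mem_ker.symm.trans (SetLike.ext_iff.1 (ker_projPre Q U hU) a)
  have hfix : ∀ l, π.app (W l).1 (x l) = x l := fun l =>
    (hπ (W l).1 (W l).2 (x l)).trans (DirectSum.decompose_of_mem_same _ (hx l))
  choose y hy using fun l => Groth.Agent.Lib.ClSub.Sections.exists_kernel_ι_app_eq (π ≫ m) (W l).1 (x l) (by
    rw [Scheme.Modules.Hom.comp_app]
    refine (congrArg (m.app (W l).1) (hfix l)).trans ?_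
    exact (hker (W l).1 (W l).2 (x l)).2 (hxJ l))
  obtain ⟨F, i, -, hq, hft, hr⟩ := CohDelta.FPApprox.Sections.exists_ft_sub (kernel (π ≫ m)) W y
  refine ⟨F, hq, hft, i ≫ kernel.ι (π ≫ m) ≫ π, fun U hU z => ?_, fun U hU z => ?_, fun l => ?_⟩
  · have h := hπ U hU ((kernel.ι (π ≫ m)).app U (i.app U z))
    exact (show ((i ≫ kernel.ι (π ≫ m) ≫ π).app U z : 𝒜.presheaf.obj (op U)) = _ from h) ▸ SetLike.coe_mem _
  · refine (hker U hU _).1 ?_
    have h := Groth.Agent.Lib.ClSub.Sections.app_kernel_ι_app (π ≫ m) U (i.app U z)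
    exact h
  · obtain ⟨z, hz⟩ := hr l
    refine ⟨z, ?_⟩
    have h1 : (kernel.ι (π ≫ m)).app (W l).1 (i.app (W l).1 z) = x l :=
      (congrArg ((kernel.ι (π ≫ m)).app (W l).1) hz).trans (hy l)
    exact (congrArg (π.app (W l).1) h1).trans (hfix l)

variable {F : S.Modules} (hq : Coh.IsQCoh F) (ι : F ⟶ 𝒜.toModule) {d : ℕ}
  (hι : ∀ (U : S.Opens) (hU : IsAffineOpen U) (y : Γ(F, U)), (ι.app U) y ∈ 𝒜.deg U hU d)

/-- The ideal generated by sections. -/
def spanJ (U : S.Opens) : Ideal (𝒜.presheaf.obj (op U)) := Ideal.span (Set.range (ι.app U))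

omit [QuasiCompact p] in
theorem rs_ι {U V : S.Opens} (h : V ≤ U) (y : Γ(F, U)) :
    rs 𝒜.toQCAlg h ((ι.app U) y : 𝒜.presheaf.obj (op U)) = (ι.app V) (QCoh.Localizing.res F h y) :=
  QCoh.Localizing.res_app ι h y

include hq hι in
/-- The ideals generated by a quasi-coherent module in one degree. -/
theorem exists_spanIdeals : ∃ Q : GrIdeals 𝒜, ∀ (U : S.Opens) (hU : IsAffineOpen U),
    Q.J U hU = (Ideal.span (Set.range (ι.app U)) : Ideal (𝒜.presheaf.obj (op U))) := by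
  haveI : F.IsQuasicoherent := hq
  refine ⟨⟨fun U _ => spanJ 𝒜 ι U, fun U hU => Ideal.homogeneous_span _ _ ?_,
    fun {U V} hU hV i r e {x} hx => ?_, fun {U} hU r {x} hx => ?_⟩, fun U hU => rfl⟩
  · rintro _ ⟨y, rfl⟩
    exact ⟨d, hι U hU y⟩
  · have h : (spanJ 𝒜 ι U).map (rs 𝒜.toQCAlg i) ≤ spanJ 𝒜 ι V := by
      rw [spanJ, Ideal.map_span, Ideal.span_le]
      rintro _ ⟨_, ⟨y, rfl⟩, rfl⟩
      exact Ideal.subset_span ⟨_, (rs_ι 𝒜 ι i y).symm⟩
    exact h (Ideal.mem_map_of_mem _ hx)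
  · letI := (rs 𝒜.toQCAlg (S.basicOpen_le r)).toAlgebra
    haveI : IsLocalization.Away (st 𝒜.toQCAlg U r) (𝒜.presheaf.obj (op (S.basicOpen r))) := 𝒜.isQC U hU r
    have h : spanJ 𝒜 ι (S.basicOpen r) ≤ (spanJ 𝒜 ι U).map (rs 𝒜.toQCAlg (S.basicOpen_le r)) := by
      refine Ideal.span_le.2 ?_
      rintro _ ⟨s, rfl⟩
      obtain ⟨n, y, hy⟩ := (QCoh.Localizing.localizes_of_isAffineOpen F hU r).ext' s
      have h2 : rs 𝒜.toQCAlg (S.basicOpen_le r) ((ι.app U) y : 𝒜.presheaf.obj (op U)) =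
          rs 𝒜.toQCAlg (S.basicOpen_le r) (st 𝒜.toQCAlg U r) ^ n * jm 𝒜.toQCAlg ι (S.basicOpen r) s := by
        rw [rs_ι 𝒜 ι, hy, Scheme.Modules.Hom.app_smul, QCAlgSub.Basic.rs_st]
        exact congrArg (· * jm 𝒜.toQCAlg ι (S.basicOpen r) s)
          (map_pow (st 𝒜.toQCAlg (S.basicOpen r)) (QCoh.Localizing.resR (S.basicOpen_le r) r) n)
      have h3 := Ideal.mem_map_of_mem (rs 𝒜.toQCAlg (S.basicOpen_le r))
        (show ((ι.app U) y : 𝒜.presheaf.obj (op U)) ∈ spanJ 𝒜 ι U from Ideal.subset_span ⟨y, rfl⟩)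
      rw [h2] at h3
      exact (Ideal.unit_mul_mem_iff_mem _ ((IsLocalization.Away.algebraMap_isUnit
        (S := 𝒜.presheaf.obj (op (S.basicOpen r))) (st 𝒜.toQCAlg U r)).pow n)).1 h3
    obtain ⟨_, ⟨n, rfl⟩, hn⟩ := (IsLocalization.algebraMap_mem_map_algebraMap_iff
      (Submonoid.powers (st 𝒜.toQCAlg U r)) (𝒜.presheaf.obj (op (S.basicOpen r))) _ x).1 (h hx)
    exact ⟨n, hn⟩

end Groth.Agent.H81.ProjClosed
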