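import Groth.Agent.H81.ProjClosed.Quot
import Groth.Agent.Lib.SymAlg.Glue
import Groth.Prelude.Def_RelProj4

/-!
# Quotients of graded quasi-coherent algebras by graded ideals given on affine opens
-/

set_option autoImplicit false
set_option backward.isDefEq.respectTransparency.types false
universe u

open CategoryTheory CategoryTheory.Limits AlgebraicGeometry TopologicalSpace Opposite
open Groth.Agent.Lib

noncomputable section

namespace Groth.Agent.H81.ProjClosed

variable {S : Scheme.{u}}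

/-- A quasi-coherent homogeneous ideal, given on affine opens. -/
structure GrIdeals (𝒜 : RelProj.QCGrAlg S) where
  J : ∀ (U : S.Opens), IsAffineOpen U → Ideal (𝒜.presheaf.obj (op U))
  isHomogeneous : ∀ (U : S.Opens) (hU : IsAffineOpen U), (J U hU).IsHomogeneous (𝒜.deg U hU)
  res_mem : ∀ {U V : S.Opens} (hU : IsAffineOpen U) (hV : IsAffineOpen V) (i : V ≤ U) (r : Γ(S, U)),
    V = S.basicOpen r → ∀ {x}, x ∈ J U hU → 𝒜.res hU hV i x ∈ J V hV
  exists_mul_mem : ∀ {U : S.Opens} (hU : IsAffineOpen U) (r : Γ(S, U)) {x},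
    𝒜.res hU (hU.basicOpen r) (S.basicOpen_le r) x ∈ J (S.basicOpen r) (hU.basicOpen r) →
      ∃ n : ℕ, ((𝒜.str.app (op U)).hom r) ^ n * x ∈ J U hU

variable {𝒜 : RelProj.QCGrAlg S} (Q : GrIdeals 𝒜)


/-- Localisation passes to quotients. -/
theorem isLocalization_quot {A B : Type u} [CommRing A] [CommRing B] (ψ : A →+* B) (c : A)
    (hloc : letI := ψ.toAlgebra; IsLocalization.Away c B) (I : Ideal A) (I' : Ideal B) (hle : I ≤ I'.comap ψ)
    (hback : ∀ x, ψ x ∈ I' → ∃ n : ℕ, c ^ n * x ∈ I) :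
    letI := (Ideal.quotientMap I' ψ hle).toAlgebra
    IsLocalization.Away (Ideal.Quotient.mk I c) (B ⧸ I') := by
  letI := ψ.toAlgebra
  haveI : IsLocalization.Away c B := hloc
  letI := (Ideal.quotientMap I' ψ hle).toAlgebra
  rw [IsLocalization.Away, isLocalization_iff]
  refine ⟨?_, fun z => ?_, fun {x y} hxy => ?_⟩
  · rintro ⟨_, n, rfl⟩
    have hu : IsUnit (ψ c) := IsLocalization.Away.algebraMap_isUnit (S := B) c
    have h2 : IsUnit (Ideal.Quotient.mk I' (ψ c)) := hu.map _
    change IsUnit (Ideal.quotientMap I' ψ hle ((Ideal.Quotient.mk I c) ^ n))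
    rw [map_pow]
    exact h2.pow n
  · obtain ⟨b, rfl⟩ := Ideal.Quotient.mk_surjective z
    obtain ⟨⟨a, _, n, rfl⟩, hb⟩ := IsLocalization.surj (Submonoid.powers c) b
    refine ⟨⟨Ideal.Quotient.mk _ a, ⟨Ideal.Quotient.mk _ (c ^ n), n, (map_pow _ c n).symm⟩⟩, ?_⟩
    exact congrArg (Ideal.Quotient.mk I') hb
  · obtain ⟨a, rfl⟩ := Ideal.Quotient.mk_surjective x
    obtain ⟨b, rfl⟩ := Ideal.Quotient.mk_surjective y
    have h2 : ψ (a - b) ∈ I' := by
      rw [map_sub]; exact Ideal.Quotient.eq.1 hxy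
    obtain ⟨n, hn⟩ := hback _ h2
    refine ⟨⟨_, n, rfl⟩, ?_⟩
    show Ideal.Quotient.mk I c ^ n * _ = Ideal.Quotient.mk I c ^ n * _
    rw [← map_pow, ← map_mul, ← map_mul, Ideal.Quotient.eq, ← mul_sub]
    exact hn

abbrev QuotRing (U : S.AffineZariskiSite) : Type u :=
  𝒜.presheaf.obj (op U.toOpens) ⧸ Q.J U.toOpens U.2

theorem le_comap_site {U V : S.AffineZariskiSite} (i : V ⟶ U) :
    Q.J U.toOpens U.2 ≤ (Q.J V.toOpens V.2).comap
      (𝒜.presheaf.map ((Scheme.AffineZariskiSite.toOpensFunctor S).map i).op).hom := fun x hx => by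
  obtain ⟨r, hr⟩ := leOfHom i
  exact Q.res_mem U.2 V.2 ((Scheme.AffineZariskiSite.toOpensFunctor S).map i).le r hr.symm hx

/-- The quotient rings. -/
def quotFun : S.AffineZariskiSiteᵒᵖ ⥤ CommRingCat.{u} where
  obj U := CommRingCat.of (QuotRing Q U.unop)
  map {U V} i := CommRingCat.ofHom (Ideal.quotientMap _ _ (le_comap_site Q i.unop))
  map_id U := CommRingCat.hom_ext (Ideal.Quotient.ringHom_ext (RingHom.ext fun x => by
    exact congrArg (Ideal.Quotient.mk _) (congr($(𝒜.presheaf.map_id (op U.unop.toOpens)) x))))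
  map_comp {U V W} i j := CommRingCat.hom_ext (Ideal.Quotient.ringHom_ext (RingHom.ext fun x => by
    exact congrArg (Ideal.Quotient.mk _)
      (congr($(𝒜.presheaf.map_comp ((Scheme.AffineZariskiSite.toOpensFunctor S).map i.unop).op
        ((Scheme.AffineZariskiSite.toOpensFunctor S).map j.unop).op) x))))

/-- The structure maps. -/
def quotStr : (Scheme.AffineZariskiSite.toOpensFunctor S).op ⋙ S.presheaf ⟶ quotFun Q where
  app U := 𝒜.str.app (op U.unop.toOpens) ≫ CommRingCat.ofHom (Ideal.Quotient.mk (Q.J U.unop.toOpens U.unop.2))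
  naturality U V i := CommRingCat.hom_ext (RingHom.ext fun x => congrArg (Ideal.Quotient.mk _)
    (congr($(𝒜.str.naturality ((Scheme.AffineZariskiSite.toOpensFunctor S).map i.unop).op) x)))

theorem coequifibered : (quotStr Q).Coequifibered := by
  refine Scheme.AffineZariskiSite.coequifibered_iff_forall_isLocalizationAway.mpr fun U r => ?_
  exact isLocalization_quot (𝒜.presheaf.map (homOfLE (S.basicOpen_le r)).op).hom
    ((𝒜.str.app (op U.toOpens)).hom r) (𝒜.isQC U.toOpens U.2 r)
    (Q.J U.toOpens U.2) (Q.J (S.basicOpen r) (U.2.basicOpen r))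
    (fun x hx => Q.res_mem U.2 (U.2.basicOpen r) (S.basicOpen_le r) r rfl hx)
    (fun x hx => Q.exists_mul_mem U.2 r hx)

local notation "H" => coequifibered Q

/-- The sections of the glued quotient over an affine open. -/
def evIso (U : S.AffineZariskiSite) :
    (SymAlg.Glue.alg H).presheaf.obj (op U.toOpens) ≅ (quotFun Q).obj (op U) :=
  @asIso _ _ _ _ (SymAlg.Glue.ev H U) (SymAlg.Glue.isIso_ev H U)

/-- The quotient map over the affine opens. -/
def projSite : (Scheme.AffineZariskiSite.toOpensFunctor S).op ⋙ 𝒜.presheaf ⟶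
    (Scheme.AffineZariskiSite.toOpensFunctor S).op ⋙ (SymAlg.Glue.alg H).presheaf where
  app U := CommRingCat.ofHom (Ideal.Quotient.mk (Q.J U.unop.toOpens U.unop.2)) ≫
    (evIso Q U.unop).inv
  naturality U V i := by
    have h : (SymAlg.Glue.alg H).presheaf.map ((Scheme.AffineZariskiSite.toOpensFunctor S).map i.unop).op ≫
        (evIso Q V.unop).hom =
          (evIso Q U.unop).hom ≫ (quotFun Q).map i :=
      SymAlg.Glue.ev_naturality H i.unop
    have key : 𝒜.presheaf.map ((Scheme.AffineZariskiSite.toOpensFunctor S).map i.unop).op ≫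
        CommRingCat.ofHom (Ideal.Quotient.mk (Q.J V.unop.toOpens V.unop.2)) =
          CommRingCat.ofHom (Ideal.Quotient.mk (Q.J U.unop.toOpens U.unop.2)) ≫
            (quotFun Q).map i := rfl
    have key2 : (quotFun Q).map i ≫ (evIso Q V.unop).inv =
        (evIso Q U.unop).inv ≫
          (SymAlg.Glue.alg H).presheaf.map ((Scheme.AffineZariskiSite.toOpensFunctor S).map i.unop).op := by
      refine (Iso.comp_inv_eq _).2 ?_
      exact ((Category.assoc _ _ _).trans ((congrArg ((evIso Q U.unop).inv ≫ ·) h).trans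
        (Iso.inv_hom_id_assoc _ _))).symm
    exact (Category.assoc _ _ _).symm.trans ((congrArg (· ≫ (evIso Q V.unop).inv) key).trans
      ((Category.assoc _ _ _).trans ((congrArg
        (CommRingCat.ofHom (Ideal.Quotient.mk (Q.J U.unop.toOpens U.unop.2)) ≫ ·) key2).trans
          (Category.assoc _ _ _).symm)))

/-- The quotient map. -/
def projPre : 𝒜.presheaf ⟶ (SymAlg.Glue.alg H).presheaf :=
  Functor.IsCoverDense.restrictHomEquivHom (G := Scheme.AffineZariskiSite.toOpensFunctor S)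
    (K := Opens.grothendieckTopology S) (ℱ := 𝒜.presheaf)
    (ℱ' := (⟨(SymAlg.Glue.alg H).presheaf, (SymAlg.Glue.alg H).isSheaf⟩ : TopCat.Sheaf CommRingCat.{u} S.carrier))
    (projSite Q)

theorem projPre_app (U : S.Opens) (hU : IsAffineOpen U) :
    (projPre Q).app (op U) =
      CommRingCat.ofHom (Ideal.Quotient.mk (Q.J U hU)) ≫ (evIso Q ⟨U, hU⟩).inv :=
  NatTrans.congr_app ((Functor.IsCoverDense.restrictHomEquivHom (G := Scheme.AffineZariskiSite.toOpensFunctor S)
    (K := Opens.grothendieckTopology S) (ℱ := 𝒜.presheaf)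
    (ℱ' := (⟨(SymAlg.Glue.alg H).presheaf, (SymAlg.Glue.alg H).isSheaf⟩ : TopCat.Sheaf CommRingCat.{u} S.carrier))).symm_apply_apply
      (projSite Q)) (op ⟨U, hU⟩)

theorem projPre_surjective (U : S.Opens) (hU : IsAffineOpen U) :
    Function.Surjective ((projPre Q).app (op U)).hom := by
  rw [projPre_app Q U hU]
  exact (ConcreteCategory.bijective_of_isIso ((evIso Q ⟨U, hU⟩).inv)).2.comp Ideal.Quotient.mk_surjective

theorem ker_projPre (U : S.Opens) (hU : IsAffineOpen U) :
    RingHom.ker ((projPre Q).app (op U)).hom = Q.J U hU := by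
  rw [projPre_app Q U hU]
  exact (RingHom.ker_comp_of_injective _
    (ConcreteCategory.bijective_of_isIso (evIso Q ⟨U, hU⟩).inv).1).trans Ideal.mk_ker

/-- The quotient map of quasi-coherent algebras. -/
def projHom : 𝒜.toQCAlg ⟶ SymAlg.Glue.alg H where
  hom := projPre Q
  comm := by
    apply (Functor.IsCoverDense.restrictHomEquivHom (G := Scheme.AffineZariskiSite.toOpensFunctor S)
      (K := Opens.grothendieckTopology S) (ℱ := S.presheaf)
      (ℱ' := (⟨(SymAlg.Glue.alg H).presheaf, (SymAlg.Glue.alg H).isSheaf⟩ :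
        TopCat.Sheaf CommRingCat.{u} S.carrier))).symm.injective
    ext U : 2
    change 𝒜.str.app (op U.unop.1) ≫ (projPre Q).app (op U.unop.1) = _
    rw [projPre_app Q U.unop.1 U.unop.2, ← Category.assoc, Iso.comp_inv_eq]
    exact (SymAlg.Glue.str_ev H U.unop).symm

/-- The graded quotient. -/
def quotAlg : RelProj.QCGrAlg S where
  toQCAlg := SymAlg.Glue.alg H
  deg U hU := Quot.imgDeg (𝒜.deg U hU) ((projHom Q).hom.app (op U)).hom
  graded U hU := Quot.gradedRing (𝒜.deg U hU) _ (projPre_surjective Q U hU)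
    ((ker_projPre Q U hU).symm ▸ Q.isHomogeneous U hU :)
  map_mem {U V} hU hV i d x hx := by
    obtain ⟨a, ha, rfl⟩ := hx
    exact ⟨_, 𝒜.map_mem hU hV i ha, congr($((projHom Q).hom.naturality (homOfLE i).op) a)⟩
  str_mem U hU r :=
    ⟨_, 𝒜.str_mem U hU r, congr($(NatTrans.congr_app (projHom Q).comm (op U)) r)⟩

theorem isGradedHom : RelProj.IsGradedHom (ℬ := quotAlg Q) (projHom Q) :=
  fun _ _ _ _ hx => ⟨_, hx, rfl⟩

end Groth.Agent.H81.ProjClosed
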