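import Groth.Agent.H81.ProjClosed.Quot
import Groth.Agent.Lib.ProjQ.Props
import Groth.Agent.H81.ProjClosed.QuotGr
import Groth.Agent.Lib.Ideal.Comap

/-!
# The graded quotient cut out by a closed subscheme of a relative Proj
-/

set_option autoImplicit false
set_option backward.isDefEq.respectTransparency.types false
universe u

open CategoryTheory CategoryTheory.Limits AlgebraicGeometry TopologicalSpace Opposite HomogeneousLocalization
open scoped HomogeneousIdeal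
open Groth.Agent.Lib

noncomputable section

namespace Groth.Agent.H81.ProjClosed

/-- The ideal of an ideal sheaf on an affine scheme. -/
def topIdeal {R : CommRingCat.{u}} (K : (Spec R).IdealSheafData) : Ideal R :=
  (K.ideal ⟨⊤, isAffineOpen_top _⟩).map (Scheme.ΓSpecIso R).hom.hom

theorem topIdeal_comap {R R' : CommRingCat.{u}} (φ : R ⟶ R') (K : (Spec R).IdealSheafData) :
    topIdeal (K.comap (Spec.map φ)) = (topIdeal K).map φ.hom := by
  rw [topIdeal, topIdeal, Ideal.Comap.ideal_comap_top, Ideal.map_map, Ideal.map_map,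
    ← CommRingCat.hom_comp, ← CommRingCat.hom_comp, Scheme.ΓSpecIso_naturality]

theorem topIdeal_ker {R R' : CommRingCat.{u}} (φ : R ⟶ R') :
    topIdeal (Spec.map φ).ker = RingHom.ker φ.hom := by
  have hR := ConcreteCategory.bijective_of_isIso (Scheme.ΓSpecIso R).hom
  have hR' := ConcreteCategory.bijective_of_isIso (Scheme.ΓSpecIso R').hom
  ext x
  obtain ⟨y, rfl⟩ := hR.2 x
  have key : φ.hom ((Scheme.ΓSpecIso R).hom y) = (Scheme.ΓSpecIso R').hom ((Spec.map φ).appTop y) :=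
    (congr($(Scheme.ΓSpecIso_naturality φ) y)).symm
  rw [topIdeal, Scheme.Hom.ker_apply, RingHom.mem_ker]
  erw [key]
  rw [Ideal.mem_map_iff_of_surjective _ hR.2]
  constructor
  · rintro ⟨z, hz, hzy⟩
    obtain rfl := hR.1 hzy
    exact (congrArg (Scheme.ΓSpecIso R').hom hz).trans (map_zero _)
  · intro h
    exact ⟨y, (injective_iff_map_eq_zero _).1 hR'.1 _ h, rfl⟩

theorem eq_of_topIdeal_comap {P : Scheme.{u}} {K L : P.IdealSheafData} {ι : Type*} {R : ι → CommRingCat.{u}}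
    (j : ∀ i, Spec (R i) ⟶ P) [∀ i, IsOpenImmersion (j i)] (hcov : ∀ x : P, ∃ i, x ∈ (j i).opensRange)
    (h : ∀ i, topIdeal (K.comap (j i)) = topIdeal (L.comap (j i))) : K = L := by
  refine Scheme.IdealSheafData.ext_of_iSup_eq_top
    (fun i => ⟨j i ''ᵁ ⊤, (isAffineOpen_top _).image_of_isOpenImmersion (j i)⟩) ?_ fun i => ?_
  · refine eq_top_iff.2 fun x _ => ?_
    obtain ⟨i, hi⟩ := hcov x
    refine Opens.mem_iSup.2 ⟨i, ?_⟩
    show x ∈ j i ''ᵁ ⊤
    rw [Scheme.Hom.image_top_eq_opensRange]; exact hi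
  · have e : (⊤ : (Spec (R i)).Opens) ≤ j i ⁻¹ᵁ (j i ''ᵁ ⊤) := ((j i).preimage_image_eq ⊤).ge
    have h' := h i
    rw [topIdeal, topIdeal, Ideal.Comap.ideal_comap (j i) _ ⟨_, _⟩ ⟨⊤, isAffineOpen_top _⟩ e,
      Ideal.Comap.ideal_comap (j i) _ ⟨_, _⟩ ⟨⊤, isAffineOpen_top _⟩ e, Ideal.map_map, Ideal.map_map] at h'
    have hb : Function.Bijective
        ((Scheme.ΓSpecIso (R i)).hom.hom.comp ((j i).appLE (j i ''ᵁ ⊤) ⊤ e).hom) := by
      refine (ConcreteCategory.bijective_of_isIso (Scheme.ΓSpecIso (R i)).hom).comp ?_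
      have h2 := ConcreteCategory.bijective_of_isIso ((j i).appIso ⊤).hom
      rwa [Scheme.Hom.appIso_hom'] at h2
    have h3 := congrArg (Ideal.comap ((Scheme.ΓSpecIso (R i)).hom.hom.comp ((j i).appLE (j i ''ᵁ ⊤) ⊤ e).hom)) h'
    rwa [Ideal.comap_map_of_bijective _ hb, Ideal.comap_map_of_bijective _ hb] at h3

variable {S P Z : Scheme.{u}} (𝒜 : RelProj.QCGrAlg S) (p : P ⟶ S)
  (chart : ∀ (U : S.Opens) (hU : IsAffineOpen U), (((p ⁻¹ᵁ U : P.Opens) : Scheme.{u}) ≅ Proj (𝒜.deg U hU)))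
  (hP : RelProj.IsRelProj 𝒜 p chart) (K : P.IdealSheafData)

/-- The ideal on a standard chart. -/
def chartIdeal (U : S.Opens) (hU : IsAffineOpen U) (t : Sat.Hom (𝒜.deg U hU)) :
    Ideal (Away (𝒜.deg U hU) t.f) :=
  topIdeal (K.comap (ProjQ.std p chart U hU t.pos t.f t.mem))

theorem chartIdeal_map {U V : S.Opens} {hU : IsAffineOpen U} {hV : IsAffineOpen V} (t : Sat.Hom (𝒜.deg U hU))
    (s : Sat.Hom (𝒜.deg V hV)) (χ : Away (𝒜.deg U hU) t.f →+* Away (𝒜.deg V hV) s.f)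
    (h : Spec.map (CommRingCat.ofHom χ) ≫ ProjQ.std p chart U hU t.pos t.f t.mem =
      ProjQ.std p chart V hV s.pos s.f s.mem) :
    (chartIdeal 𝒜 p chart K U hU t).map χ = chartIdeal 𝒜 p chart K V hV s := by
  rw [chartIdeal, chartIdeal, ← h, Scheme.IdealSheafData.comap_comp, topIdeal_comap]
  rfl

theorem std_congr {U : S.Opens} (hU : IsAffineOpen U) {d d' : ℕ} (e : d = d') (hd : 0 < d) (hd' : 0 < d')
    (f : 𝒜.presheaf.obj (op U)) (hf : f ∈ 𝒜.deg U hU d) (hf' : f ∈ 𝒜.deg U hU d') :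
    ProjQ.std p chart U hU hd f hf = ProjQ.std p chart U hU hd' f hf' := by
  subst e; rfl

theorem std_mul {U : S.Opens} (hU : IsAffineOpen U) {d d' : ℕ} (hd : 0 < d) (f g x : 𝒜.presheaf.obj (op U))
    (hf : f ∈ 𝒜.deg U hU d) (hg : g ∈ 𝒜.deg U hU d') (hx : x = f * g) (hd' : 0 < d + d')
    (hxm : x ∈ 𝒜.deg U hU (d + d')) :
    Spec.map (CommRingCat.ofHom (awayMap (𝒜.deg U hU) hg hx)) ≫ ProjQ.std p chart U hU hd f hf =
      ProjQ.std p chart U hU hd' x hxm := by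
  rw [ProjQ.std, ProjQ.std, ← Category.assoc, Proj.SpecMap_awayMap_awayι]

/-- The product of two homogeneous elements. -/
abbrev mulHom {U : S.Opens} {hU : IsAffineOpen U} (t s : Sat.Hom (𝒜.deg U hU)) : Sat.Hom (𝒜.deg U hU) :=
  ⟨t.e + s.e, Nat.add_pos_left t.pos _, t.f * s.f, SetLike.mul_mem_graded t.mem s.mem⟩

theorem chartIdeal_left {U : S.Opens} {hU : IsAffineOpen U} (t s : Sat.Hom (𝒜.deg U hU)) :
    (chartIdeal 𝒜 p chart K U hU t).map (awayMap (𝒜.deg U hU) s.mem (rfl : t.f * s.f = t.f * s.f)) =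
      chartIdeal 𝒜 p chart K U hU (mulHom 𝒜 t s) :=
  chartIdeal_map 𝒜 p chart K t (mulHom 𝒜 t s) (awayMap (𝒜.deg U hU) s.mem rfl)
    (std_mul 𝒜 p chart hU t.pos t.f s.f _ t.mem s.mem rfl (mulHom 𝒜 t s).pos (mulHom 𝒜 t s).mem)

theorem chartIdeal_right {U : S.Opens} {hU : IsAffineOpen U} (t s : Sat.Hom (𝒜.deg U hU)) :
    (chartIdeal 𝒜 p chart K U hU s).map (awayMap (𝒜.deg U hU) t.mem (mul_comm t.f s.f : t.f * s.f = s.f * t.f)) =
      chartIdeal 𝒜 p chart K U hU (mulHom 𝒜 t s) := by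
  have hmem : t.f * s.f ∈ 𝒜.deg U hU (s.e + t.e) := by
    rw [mul_comm]; exact SetLike.mul_mem_graded s.mem t.mem
  refine chartIdeal_map 𝒜 p chart K s (mulHom 𝒜 t s) (awayMap (𝒜.deg U hU) t.mem (mul_comm t.f s.f)) ?_
  exact (std_mul 𝒜 p chart hU s.pos s.f t.f _ s.mem t.mem (mul_comm t.f s.f) (Nat.add_pos_left s.pos _) hmem).trans
    (std_congr 𝒜 p chart hU (add_comm s.e t.e) _ _ _ _ _)

/-- The compatible family over an affine open. -/
def fam (U : S.Opens) (hU : IsAffineOpen U) : Sat.Compat (𝒜.deg U hU) :=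
  ⟨chartIdeal 𝒜 p chart K U hU, chartIdeal_left 𝒜 p chart K, chartIdeal_right 𝒜 p chart K⟩

/-- The homogeneous ideal over an affine open. -/
def J (U : S.Opens) (hU : IsAffineOpen U) : Ideal (𝒜.presheaf.obj (op U)) := (fam 𝒜 p chart K U hU).J

theorem isHomogeneous_J (U : S.Opens) (hU : IsAffineOpen U) : (J 𝒜 p chart K U hU).IsHomogeneous (𝒜.deg U hU) :=
  Sat.Compat.isHomogeneous_J _

/-- The image of a homogeneous element. -/
def resHom {U V : S.Opens} (hU : IsAffineOpen U) (hV : IsAffineOpen V) (i : V ≤ U) (t : Sat.Hom (𝒜.deg U hU)) :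
    Sat.Hom (𝒜.deg V hV) :=
  ⟨t.e, t.pos, 𝒜.res hU hV i t.f, (𝒜.res hU hV i).map_mem t.mem⟩

include hP in
theorem chartIdeal_res {U V : S.Opens} (hU : IsAffineOpen U) (hV : IsAffineOpen V) (i : V ≤ U)
    (t : Sat.Hom (𝒜.deg U hU)) :
    (chartIdeal 𝒜 p chart K U hU t).map (Away.map (𝒜.res hU hV i) t.f) =
      chartIdeal 𝒜 p chart K V hV (resHom 𝒜 hU hV i t) :=
  chartIdeal_map 𝒜 p chart K t (resHom 𝒜 hU hV i t) (Away.map (𝒜.res hU hV i) t.f)
    (ProjQ.std_res hP hU hV i t.pos t.f t.mem).symm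

include hP in
theorem res_mem {U V : S.Opens} (hU : IsAffineOpen U) (hV : IsAffineOpen V) (i : V ≤ U) (r : Γ(S, U))
    (e : V = S.basicOpen r) {x : 𝒜.presheaf.obj (op U)} (hx : x ∈ J 𝒜 p chart K U hU) :
    𝒜.res hU hV i x ∈ J 𝒜 p chart K V hV := by
  refine (fam 𝒜 p chart K V hV).mem_of_family (Set.range (resHom 𝒜 hU hV i)) (fun t => ?_) ?_
  · refine Ideal.le_radical ?_
    have hirr : (𝒜.deg V hV)₊ ≤ ((𝒜.deg U hU)₊).map (𝒜.res hU hV i) := by
      subst e; exact 𝒜.irrelevant_le_map U hU r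
    refine (Ideal.map_le_iff_le_comap.2 ?_) (hirr (HomogeneousIdeal.mem_irrelevant_of_mem _ t.pos t.mem))
    refine (HomogeneousIdeal.toIdeal_irrelevant_le _).2 fun n hn a ha => ?_
    exact Ideal.subset_span ⟨resHom 𝒜 hU hV i ⟨n, hn, a, ha⟩, ⟨_, rfl⟩, rfl⟩
  · rintro _ ⟨t, rfl⟩
    change _ ∈ Sat.Jf (chartIdeal 𝒜 p chart K V hV (resHom 𝒜 hU hV i t))
    rw [← chartIdeal_res 𝒜 p chart hP K hU hV i t]
    exact Sat.res_mem_Jf _ t.mem _ ((fam 𝒜 p chart K U hU).mem_J_iff.1 hx t)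

include chart in
theorem compactSpace_proj [QuasiCompact p] (U : S.Opens) (hU : IsAffineOpen U) :
    CompactSpace (Proj (𝒜.deg U hU)) := by
  haveI : CompactSpace ((p ⁻¹ᵁ U : P.Opens) : Scheme.{u}) :=
    isCompact_iff_compactSpace.1 (p.isCompact_preimage hU.isCompact)
  exact (chart U hU).hom.homeomorph.compactSpace

include hP in
theorem exists_mul_mem [QuasiCompact p] {U : S.Opens} (hU : IsAffineOpen U) (r : Γ(S, U))
    {x : 𝒜.presheaf.obj (op U)}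
    (hx : 𝒜.res hU (hU.basicOpen r) (S.basicOpen_le r) x ∈ J 𝒜 p chart K _ (hU.basicOpen r)) :
    ∃ n : ℕ, ((𝒜.str.app (op U)).hom r) ^ n * x ∈ J 𝒜 p chart K U hU := by
  haveI := compactSpace_proj 𝒜 p chart U hU
  obtain ⟨T, hT⟩ := Quot.exists_finset_cover (𝒜 := 𝒜.deg U hU)
  refine (fam 𝒜 p chart K U hU).exists_pow_mul_mem_J T hT _ fun t _ => ?_
  refine Sat.exists_mul_mem_of_res (𝒜.res hU (hU.basicOpen r) (S.basicOpen_le r)) t.mem _
    (H81.RelProj.Chart.isLocHom 𝒜 hU r) ?_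
  change _ ∈ Sat.Jf ((chartIdeal 𝒜 p chart K U hU t).map _)
  rw [chartIdeal_res 𝒜 p chart hP K hU _ _ t]
  exact (fam 𝒜 p chart K _ (hU.basicOpen r)).mem_J_iff.1 hx _

theorem exists_pow_mul_mem [QuasiCompact p] {U : S.Opens} (hU : IsAffineOpen U) (t : Sat.Hom (𝒜.deg U hU))
    {a : 𝒜.presheaf.obj (op U)} (ha : a ∈ Sat.Jf (chartIdeal 𝒜 p chart K U hU t)) :
    ∃ n : ℕ, t.f ^ n * a ∈ J 𝒜 p chart K U hU := by
  haveI := compactSpace_proj 𝒜 p chart U hU
  obtain ⟨T, hT⟩ := Quot.exists_finset_cover (𝒜 := 𝒜.deg U hU)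
  exact (fam 𝒜 p chart K U hU).exists_pow_mul_mem_J T hT _ fun s _ =>
    (fam 𝒜 p chart K U hU).exists_pow_mul_mem ha

/-- The ideal cut out by `K`. -/
def ideals [QuasiCompact p] : GrIdeals 𝒜 where
  J := J 𝒜 p chart K
  isHomogeneous := isHomogeneous_J 𝒜 p chart K
  res_mem hU hV i r e := fun hx => res_mem 𝒜 p chart hP K hU hV i r e hx
  exists_mul_mem hU r := fun hx => exists_mul_mem 𝒜 p chart hP K hU r hx

end Groth.Agent.H81.ProjClosed
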