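import Groth.Agent.H81.ProjClosed.Glue
import Groth.Agent.S8258

/-!
# A closed subscheme of a relative Proj is the relative Proj of a graded quotient
-/

set_option autoImplicit false
set_option backward.isDefEq.respectTransparency.types false
universe u

open CategoryTheory CategoryTheory.Limits AlgebraicGeometry TopologicalSpace Opposite HomogeneousLocalization
open scoped HomogeneousIdeal
open Groth.Agent.Lib

noncomputable section

namespace Groth.Agent.H81.ProjClosed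

variable {S P Z : Scheme.{u}} (𝒜 : RelProj.QCGrAlg S) (p : P ⟶ S)
  (chart : ∀ (U : S.Opens) (hU : IsAffineOpen U), (((p ⁻¹ᵁ U : P.Opens) : Scheme.{u}) ≅ Proj (𝒜.deg U hU)))
  (hP : RelProj.IsRelProj 𝒜 p chart) (K : P.IdealSheafData)
  {ℬ : RelProj.QCGrAlg S} (φ : 𝒜.toQCAlg ⟶ ℬ.toQCAlg) (hφ : RelProj.IsGradedHom φ)

theorem gradedHomAt_surjective (hs : ∀ U : S.Opens, IsAffineOpen U → Function.Surjective (φ.hom.app (op U)).hom)
    (U : S.Opens) (hU : IsAffineOpen U) {d : ℕ} {b : ℬ.presheaf.obj (op U)} (hb : b ∈ ℬ.deg U hU d) :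
    ∃ a ∈ 𝒜.deg U hU d, RelProj.gradedHomAt φ hφ U hU a = b := by
  obtain ⟨a, rfl⟩ := hs U hU b
  refine ⟨DirectSum.decompose (𝒜.deg U hU) a d, SetLike.coe_mem _, ?_⟩
  exact (GradedRingHom.map_directSumDecompose (𝒜.deg U hU) (ℬ.deg U hU) (RelProj.gradedHomAt φ hφ U hU)).trans
    (DirectSum.decompose_of_mem_same (ℬ.deg U hU) hb)

variable {PB : Scheme.{u}} {pB : PB ⟶ S}
  {chartB : ∀ (U : S.Opens) (hU : IsAffineOpen U), (((pB ⁻¹ᵁ U : PB.Opens) : Scheme.{u}) ≅ Proj (ℬ.deg U hU))}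

theorem domQ_top (hs : ∀ U : S.Opens, IsAffineOpen U → Function.Surjective (φ.hom.app (op U)).hom) :
    RelProj.domQ (RelProj.QGrHom.ofHom φ hφ) pB chartB = ⊤ := by
  refine ProjQ.domQ_eq_top fun y => ?_
  obtain ⟨U, hU, hy, -⟩ := exists_isAffineOpen_mem_and_subset (X := S) (U := ⊤) (x := y) trivial
  refine ⟨U, hU, U, hU, le_rfl, hy, ?_⟩
  rw [ProjQ.gradedAt_ofHom φ hφ U hU]
  exact ProjQ.domOpen_eq_top_of_tnSurjective (n := 0) _ fun k _ b hb => gradedHomAt_surjective 𝒜 φ hφ hs U hU hb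

theorem isClosedImmersion (hP : RelProj.IsRelProj 𝒜 p chart) (hPB : RelProj.IsRelProj ℬ pB chartB)
    (hs : ∀ U : S.Opens, IsAffineOpen U → Function.Surjective (φ.hom.app (op U)).hom)
    {h : PB ⟶ P} (hh : RelProj.IsProjQMap (RelProj.QGrHom.ofHom φ hφ) p chart pB chartB h) :
    IsClosedImmersion h := by
  refine ProjQ.of_charts' @IsClosedImmersion hP hPB hh (fun U hU => hU) ?_
  rintro ⟨U, hU, U', hU', hle, d, hd, f, hf⟩ hi
  dsimp only at hi
  subst hi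
  refine IsClosedImmersion.spec_of_surjective _ ?_
  refine ProjQ.awayMap_surjective (n := 0) _ (fun k _ b hb => ?_) hd hf
  obtain ⟨a, ha, e⟩ := gradedHomAt_surjective 𝒜 φ hφ hs U hU hb
  exact ⟨a, ha, (congr($(ProjQ.gradedAt_ofHom φ hφ U hU) a)).trans e⟩

theorem topIdeal_comap_std (hP : RelProj.IsRelProj 𝒜 p chart) (hPB : RelProj.IsRelProj ℬ pB chartB)
    {h : PB ⟶ P} [IsClosedImmersion h]
    (hh : RelProj.IsProjQMap (RelProj.QGrHom.ofHom φ hφ) p chart pB chartB h)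
    (U : S.Opens) (hU : IsAffineOpen U) (t : Sat.Hom (𝒜.deg U hU)) :
    topIdeal (h.ker.comap (ProjQ.std p chart U hU t.pos t.f t.mem)) =
      RingHom.ker (Away.map (RelProj.gradedHomAt φ hφ U hU) t.f) := by
  haveI := ProjQ.isIso_ι (u := RelProj.QGrHom.ofHom φ hφ) hh.1
  let i : ProjQ.Idx (g := 𝟙 S) (𝒮 := 𝒜) := ⟨U, hU, U, hU, le_rfl, t.e, t.pos, t.f, t.mem⟩
  have hpb := (ProjQ.isPullback_std hP hPB (ProjQ.ι_comp_isProjQMap hh) i rfl)
  haveI : IsClosedImmersion ((RelProj.domQ (RelProj.QGrHom.ofHom φ hφ) pB chartB).ι ≫ h) := inferInstance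
  have e1 : h.ker.comap (ProjQ.std p chart U hU t.pos t.f t.mem) =
      (Spec.map (CommRingCat.ofHom (Away.map (i.φ (RelProj.QGrHom.ofHom φ hφ)) i.f))).ker := by
    rw [← hpb.isoPullback_hom_fst, Scheme.Hom.ker_comp_of_isIso, Scheme.IdealSheafData.ker_fst_of_isClosedImmersion,
      Scheme.Hom.ker_comp_of_isIso]
  rw [e1, topIdeal_ker]
  ext z
  obtain ⟨k, a, ha, rfl⟩ := Away.mk_surjective (𝒜.deg U hU) t.mem z
  have hg := ProjQ.gradedAt_ofHom φ hφ U hU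
  change Away.map ((RelProj.QGrHom.ofHom φ hφ).gradedAt U hU U hU le_rfl) t.f _ = 0 ↔ _
  rw [RingHom.mem_ker, hg]

include hP in
/-- A closed subscheme of a relative Proj, as the Proj of a graded quotient. -/
theorem exists_quotient [QuasiCompact p] (i : Z ⟶ P) [IsClosedImmersion i] :
    ∃ (ℬ : RelProj.QCGrAlg S) (φ : 𝒜.toQCAlg ⟶ ℬ.toQCAlg) (hφ : RelProj.IsGradedHom φ) (PB : Scheme.{u})
      (pB : PB ⟶ S) (chartB : ∀ (U : S.Opens) (hU : IsAffineOpen U), (((pB ⁻¹ᵁ U : PB.Opens) : Scheme.{u}) ≅ Proj (ℬ.deg U hU)))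
      (h : PB ⟶ P) (e : PB ≅ Z),
      (∀ (U : S.Opens), IsAffineOpen U → Function.Surjective (φ.hom.app (op U)).hom) ∧
        RelProj.IsRelProj ℬ pB chartB ∧ RelProj.IsProjQMap (RelProj.QGrHom.ofHom φ hφ) p chart pB chartB h ∧
        e.hom ≫ i = h := by
  let K := i.ker
  let ℬ := quotAlg (ideals 𝒜 p chart hP K)
  let φ : 𝒜.toQCAlg ⟶ ℬ.toQCAlg := projHom (ideals 𝒜 p chart hP K)
  have hφ : RelProj.IsGradedHom φ := isGradedHom (ideals 𝒜 p chart hP K)
  have hs : ∀ U : S.Opens, IsAffineOpen U → Function.Surjective (φ.hom.app (op U)).hom :=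
    projPre_surjective (ideals 𝒜 p chart hP K)
  obtain ⟨PB, pB, chartB, hPB⟩ := S8258.result ℬ
  obtain ⟨h, hh⟩ := ProjQ.exists_isProjQMap (chart := chart) (u := RelProj.QGrHom.ofHom φ hφ)
    (domQ_top 𝒜 φ hφ hs (pB := pB) (chartB := chartB)) hP hPB
  haveI := isClosedImmersion 𝒜 p chart φ hφ hP hPB hs hh
  have hker : h.ker = i.ker := by
    choose U hU d hd f hf hx using fun x : P => ProjQ.exists_std (p := p) (chart := chart) x
    refine eq_of_topIdeal_comap (fun x => ProjQ.std p chart (U x) (hU x) (hd x) (f x) (hf x))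
      (fun x => ⟨x, hx x⟩) fun x => ?_
    let t : Sat.Hom (𝒜.deg (U x) (hU x)) := ⟨d x, hd x, f x, hf x⟩
    refine (topIdeal_comap_std 𝒜 p chart φ hφ hP hPB hh (U x) (hU x) t).trans ?_
    change _ = chartIdeal 𝒜 p chart K (U x) (hU x) t
    have hmem : ∀ a, φ.hom.app (op (U x)) a = 0 ↔ a ∈ J 𝒜 p chart K (U x) (hU x) := fun a =>
      RingHom.mem_ker.symm.trans (SetLike.ext_iff.1 (ker_projPre (ideals 𝒜 p chart hP K) (U x) (hU x)) a)
    refine Sat.ker_awayMap t.mem _ (RelProj.gradedHomAt φ hφ (U x) (hU x)) t.pos (fun a ha => ?_) (fun a ha => ?_)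
    · exact (fam 𝒜 p chart K (U x) (hU x)).mem_J_iff.1 ((hmem a).1 ha) t
    · obtain ⟨n, hn⟩ := exists_pow_mul_mem 𝒜 p chart K (hU x) t ha
      exact ⟨n, (hmem _).2 hn⟩
  haveI : IsIso (IsClosedImmersion.lift i h hker.ge) := IsClosedImmersion.isIso_lift i h hker.symm
  exact ⟨ℬ, φ, hφ, PB, pB, chartB, h, asIso (IsClosedImmersion.lift i h hker.ge), hs, hPB, hh,
    IsClosedImmersion.lift_fac _ _ _⟩

end Groth.Agent.H81.ProjClosed
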