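import Groth.Agent.H81.ProjClosed.Sat
import Mathlib.RingTheory.GradedAlgebra.RingHom

/-!
# Covering families and quotient gradings
-/

set_option autoImplicit false
set_option backward.isDefEq.respectTransparency.types false
noncomputable section
universe u

open HomogeneousLocalization DirectSum AlgebraicGeometry TopologicalSpace

namespace Groth.Agent.H81.ProjClosed.Quot

variable {A σ : Type u} [CommRing A] [SetLike σ A] [AddSubgroupClass σ A] {𝒜 : ℕ → σ} [GradedRing 𝒜]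

theorem mem_radical_of_cover (T : Set (Sat.Hom 𝒜))
    (hT : ∀ x : ProjectiveSpectrum 𝒜, ∃ s ∈ T, s.f ∉ x.asHomogeneousIdeal) (t : Sat.Hom 𝒜) :
    t.f ∈ (Ideal.span ((fun s => s.f) '' T)).radical := by
  classical
  rw [Ideal.radical_eq_sInf, Ideal.mem_sInf]
  rintro P ⟨hP, hPp⟩
  by_contra htP
  let Q : HomogeneousIdeal 𝒜 := P.homogeneousCore 𝒜
  have hQle : Q.toIdeal ≤ P := Ideal.toIdeal_homogeneousCore_le 𝒜 P
  have hQ : ¬ (HomogeneousIdeal.irrelevant 𝒜) ≤ Q := fun h =>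
    htP (hQle (h (HomogeneousIdeal.mem_irrelevant_of_mem 𝒜 t.pos t.mem)))
  obtain ⟨s, hs, hsQ⟩ := hT ⟨Q, hPp.homogeneousCore, hQ⟩
  exact hsQ (Ideal.mem_homogeneousCore_of_homogeneous_of_mem ⟨s.e, s.mem⟩ (hP (Ideal.subset_span ⟨s, hs, rfl⟩)))

theorem exists_finset_cover [hc : CompactSpace (Proj 𝒜)] :
    ∃ T : Finset (Sat.Hom 𝒜), ∀ t : Sat.Hom 𝒜,
      t.f ∈ (Ideal.span ((fun s => s.f) '' (T : Set (Sat.Hom 𝒜)))).radical := by
  classical
  obtain ⟨T, hT⟩ := hc.isCompact_univ.elim_finite_subcover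
    (fun s : Sat.Hom 𝒜 => ((Proj.basicOpen 𝒜 s.f : (Proj 𝒜).Opens) : Set (Proj 𝒜))) (fun s => Opens.isOpen _)
    fun x _ => by
      by_contra h
      simp only [Set.mem_iUnion, not_exists] at h
      refine x.not_irrelevant_le ((HomogeneousIdeal.irrelevant_le _).2 fun n hn a ha => ?_)
      by_contra hax
      exact h ⟨n, hn, a, ha⟩ hax
  refine ⟨T, fun t => mem_radical_of_cover _ (fun x => ?_) t⟩
  obtain ⟨s, hs, hx⟩ := Set.mem_iUnion₂.1 (hT (Set.mem_univ x))
  exact ⟨s, hs, hx⟩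

variable {B : Type u} [CommRing B] {A' : Type u} [CommRing A'] (𝒢 : ℕ → AddSubgroup A') [GradedRing 𝒢]

/-- The pieces of the image of a graded ring. -/
def imgDeg (φ : A' →+* B) (d : ℕ) : AddSubgroup B := (𝒢 d).map φ.toAddMonoidHom

theorem mem_imgDeg {φ : A' →+* B} {d : ℕ} {a : A'} (ha : a ∈ 𝒢 d) : φ a ∈ imgDeg 𝒢 φ d := ⟨a, ha, rfl⟩

/-- The grading of a quotient. -/
@[instance_reducible]
def gradedRing (φ : A' →+* B) (hsurj : Function.Surjective φ) (hker : (RingHom.ker φ).IsHomogeneous 𝒢) :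
    GradedRing (imgDeg 𝒢 φ) :=
  haveI : SetLike.GradedMonoid (imgDeg 𝒢 φ) :=
    { one_mem := ⟨1, SetLike.GradedOne.one_mem, map_one φ⟩
      mul_mem := by
        rintro i j _ _ ⟨a, ha, rfl⟩ ⟨b, hb, rfl⟩
        exact ⟨a * b, SetLike.mul_mem_graded ha hb, map_mul φ a b⟩ }
  have hcompat : ∀ d : DirectSum ℕ (fun i => 𝒢 i),
      DirectSum.coeAddMonoidHom (imgDeg 𝒢 φ)
        (DirectSum.map (fun i => φ.toAddMonoidHom.addSubgroupMap (𝒢 i)) d) =
        φ (DirectSum.coeAddMonoidHom 𝒢 d) := fun d => by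
    induction d using DirectSum.induction_on with
    | zero => exact ((congrArg _ (map_zero _)).trans (map_zero _)).trans ((congrArg φ (map_zero _)).trans (map_zero φ)).symm
    | of i a =>
      rw [DirectSum.map_of]
      erw [DirectSum.coeAddMonoidHom_of, DirectSum.coeAddMonoidHom_of]
      rfl
    | add x y hx hy =>
      exact ((congrArg _ (map_add _ x y)).trans (map_add _ _ _)).trans
        ((congrArg₂ (· + ·) hx hy).trans ((congrArg φ (map_add _ x y)).trans (map_add φ _ _)).symm)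
  have hbij : Function.Bijective (DirectSum.coeAddMonoidHom (imgDeg 𝒢 φ)) := by
    refine ⟨(injective_iff_map_eq_zero _).2 fun x hx => ?_, fun y => ?_⟩
    · obtain ⟨d, rfl⟩ := (DirectSum.map_surjective _).2
        (fun i => AddMonoidHom.addSubgroupMap_surjective φ.toAddMonoidHom (𝒢 i)) x
      erw [hcompat] at hx
      have hd : DirectSum.decompose 𝒢 (DirectSum.coeAddMonoidHom 𝒢 d) = d :=
        DirectSum.Decomposition.right_inv (ℳ := 𝒢) d
      ext i
      rw [DirectSum.map_apply]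
      show φ ((d i : 𝒢 i) : A') = 0
      rw [← hd]
      exact hker i hx
    · obtain ⟨a, rfl⟩ := hsurj y
      exact ⟨_, (hcompat (DirectSum.decompose 𝒢 a)).trans (congrArg φ ((DirectSum.decompose 𝒢).left_inv a))⟩
  letI := DirectSum.IsInternal.chooseDecomposition (imgDeg 𝒢 φ) hbij
  { }

end Groth.Agent.H81.ProjClosed.Quot
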