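import Mathlib.RingTheory.GradedAlgebra.HomogeneousLocalization
import Mathlib.RingTheory.GradedAlgebra.Radical
import Mathlib.RingTheory.Localization.Ideal
import Mathlib.AlgebraicGeometry.ProjectiveSpectrum.Basic
import Groth.Agent.H81.RelProj.Localize

/-!
# Saturated homogeneous ideals from ideals on the standard charts
-/

set_option autoImplicit false
set_option backward.isDefEq.respectTransparency.types false
noncomputable section
universe u

open HomogeneousLocalization DirectSum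

namespace Groth.Agent.H81.ProjClosed.Sat

section basic

variable {A σ : Type u} [CommRing A] [SetLike σ A] [AddSubgroupClass σ A] {𝒜 : ℕ → σ} [GradedRing 𝒜]
  {e : ℕ} {f : A} (hf : f ∈ 𝒜 e) (I : Ideal (Away 𝒜 f))

/-- The extension of `I` to `A_f`. -/
def Kf : Ideal (Localization.Away f) := I.map (algebraMap (Away 𝒜 f) (Localization.Away f))

/-- The saturated ideal of `A` attached to an ideal of the chart. -/
def Jf : Ideal A := (Kf I).comap (algebraMap A (Localization.Away f))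

theorem map_Jf : (Jf I).map (algebraMap A (Localization.Away f)) = Kf I :=
  IsLocalization.map_under (Submonoid.powers f) _ (Kf I)

theorem mem_Jf_of_mul_mem {x : A} (n : ℕ) (h : f ^ n * x ∈ Jf I) : x ∈ Jf I := by
  rw [Jf, Ideal.mem_comap, map_mul, map_pow] at h
  exact (Ideal.unit_mul_mem_iff_mem (Kf I) ((IsLocalization.Away.algebraMap_isUnit (S := Localization.Away f) f).pow n)).1 h

include hf in
theorem val_mk_mul (k : ℕ) (a : A) (ha : a ∈ 𝒜 (k • e)) :
    (Away.mk 𝒜 hf k a ha).val * algebraMap A (Localization.Away f) (f ^ k) =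
      algebraMap A (Localization.Away f) a := by
  rw [Away.val_mk, Localization.mk_eq_mk']
  exact IsLocalization.mk'_spec (Localization.Away f) a (⟨f ^ k, k, rfl⟩ : Submonoid.powers f)

theorem mem_Jf_of_mk {k : ℕ} {a : A} (ha : a ∈ 𝒜 (k • e)) (h : Away.mk 𝒜 hf k a ha ∈ I) : a ∈ Jf I := by
  rw [Jf, Ideal.mem_comap, ← val_mk_mul hf k a ha]
  exact Ideal.mul_mem_right _ _ (Ideal.mem_map_of_mem _ h)

/-- The homogeneous generators. -/
def gens : Set A := {a | ∃ (k : ℕ) (ha : a ∈ 𝒜 (k • e)), Away.mk 𝒜 hf k a ha ∈ I}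

theorem Kf_eq : Kf I = (Ideal.span (gens hf I)).map (algebraMap A (Localization.Away f)) := by
  refine le_antisymm (Ideal.map_le_iff_le_comap.2 fun z hz => ?_)
    ((Ideal.map_span _ _).trans_le (Ideal.span_le.2 ?_))
  · obtain ⟨k, a, ha, rfl⟩ := Away.mk_surjective 𝒜 hf z
    have h : algebraMap A (Localization.Away f) a ∈
        (Ideal.span (gens hf I)).map (algebraMap A (Localization.Away f)) :=
      Ideal.mem_map_of_mem _ (Ideal.subset_span ⟨k, ha, hz⟩)
    rw [← val_mk_mul hf k a ha, map_pow] at h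
    exact (Ideal.mul_unit_mem_iff_mem _ ((IsLocalization.Away.algebraMap_isUnit (S := Localization.Away f) f).pow k)).1 h
  · rintro _ ⟨a, ⟨k, ha, h⟩, rfl⟩
    exact mem_Jf_of_mk hf I ha h

include hf in
theorem mem_Jf_iff {x : A} : x ∈ Jf I ↔ ∃ n : ℕ, f ^ n * x ∈ Ideal.span (gens hf I) := by
  rw [Jf, Ideal.mem_comap, Kf_eq hf I, IsLocalization.algebraMap_mem_map_algebraMap_iff (Submonoid.powers f)]
  exact ⟨fun ⟨_, ⟨n, rfl⟩, h⟩ => ⟨n, h⟩, fun ⟨n, h⟩ => ⟨f ^ n, ⟨n, rfl⟩, h⟩⟩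

include hf in
theorem isHomogeneous_Jf : (Jf I).IsHomogeneous 𝒜 := by
  classical
  intro d x hx
  obtain ⟨n, hn⟩ := (mem_Jf_iff hf I).1 hx
  refine (mem_Jf_iff hf I).2 ⟨n, ?_⟩
  have hh : (Ideal.span (gens hf I)).IsHomogeneous 𝒜 :=
    Ideal.homogeneous_span _ _ fun _ ⟨k, ha, _⟩ => ⟨k • e, ha⟩
  have h2 := hh (n • e + d) hn
  rwa [DirectSum.coe_decompose_mul_of_left_mem_of_le 𝒜 (SetLike.pow_mem_graded n hf) (Nat.le_add_right _ _),
    Nat.add_sub_cancel_left] at h2

theorem comp_mem_of_mem_span (he : 0 < e) {y : A} (hy : y ∈ Ideal.span (gens hf I)) :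
    ∀ (g : A) (n : ℕ), Away.mk 𝒜 hf n (decompose 𝒜 (g * y) (n • e) : A) (SetLike.coe_mem _) ∈ I := by
  classical
  have z0 : ∀ (n : ℕ) (a : A) (ha : a ∈ 𝒜 (n • e)), a = 0 → Away.mk 𝒜 hf n a ha ∈ I := fun n a ha h => by
    have h2 : Away.mk 𝒜 hf n a ha = 0 := HomogeneousLocalization.val_injective _ (by
      rw [Away.val_mk, HomogeneousLocalization.val_zero, h, Localization.mk_zero])
    rw [h2]; exact zero_mem _
  induction hy using Submodule.span_induction with
  | mem s hs =>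
    obtain ⟨k, hs1, hs2⟩ := hs
    intro g n
    by_cases hkn : k ≤ n
    · obtain ⟨m, rfl⟩ := Nat.exists_eq_add_of_le hkn
      have hc : (decompose 𝒜 g (m • e) : A) ∈ 𝒜 (m • e) := SetLike.coe_mem _
      have e1 : (decompose 𝒜 (g * s) ((k + m) • e) : A) = (decompose 𝒜 g (m • e) : A) * s := by
        rw [DirectSum.coe_decompose_mul_of_right_mem_of_le 𝒜 hs1 (show k • e ≤ (k + m) • e from Nat.mul_le_mul_right _ hkn),
          show (k + m) • e - k • e = m • e by rw [add_smul, Nat.add_sub_cancel_left]]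
      have e2 : Away.mk 𝒜 hf (k + m) (decompose 𝒜 (g * s) ((k + m) • e) : A) (SetLike.coe_mem _) =
          Away.mk 𝒜 hf m _ hc * Away.mk 𝒜 hf k s hs1 := by
        apply HomogeneousLocalization.val_injective
        rw [HomogeneousLocalization.val_mul, Away.val_mk, Away.val_mk, Away.val_mk, Localization.mk_mul, e1]
        exact congrArg (Localization.mk _) (Subtype.ext ((pow_add f k m).trans (mul_comm _ _)))
      rw [e2]
      exact Ideal.mul_mem_left _ _ hs2
    · refine z0 _ _ _ (DirectSum.coe_decompose_mul_of_right_mem_of_not_le 𝒜 hs1 fun h => hkn ?_)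
      exact Nat.le_of_mul_le_mul_right h he
  | zero =>
    intro g n
    exact z0 _ _ _ (by rw [mul_zero, DirectSum.decompose_zero]; rfl)
  | add p q _ _ hp hq =>
    intro g n
    have e2 : Away.mk 𝒜 hf n (decompose 𝒜 (g * (p + q)) (n • e) : A) (SetLike.coe_mem _) =
        Away.mk 𝒜 hf n (decompose 𝒜 (g * p) (n • e) : A) (SetLike.coe_mem _) +
          Away.mk 𝒜 hf n (decompose 𝒜 (g * q) (n • e) : A) (SetLike.coe_mem _) := by
      apply HomogeneousLocalization.val_injective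
      rw [HomogeneousLocalization.val_add, Away.val_mk, Away.val_mk, Away.val_mk, Localization.add_mk_self,
        mul_add, DirectSum.decompose_add, DirectSum.add_apply, AddMemClass.coe_add]
    rw [e2]
    exact add_mem (hp g n) (hq g n)
  | smul r p _ hp =>
    intro g n
    have h := hp (g * r) n
    have e2 : Away.mk 𝒜 hf n (decompose 𝒜 (g * (r • p)) (n • e) : A) (SetLike.coe_mem _) =
        Away.mk 𝒜 hf n (decompose 𝒜 (g * r * p) (n • e) : A) (SetLike.coe_mem _) := by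
      apply HomogeneousLocalization.val_injective
      rw [Away.val_mk, Away.val_mk, mul_assoc]
      rfl
    exact e2 ▸ h

/-- Degree-zero fractions in the extended ideal lie in `I`. -/
theorem mk_mem_of_mem_Jf (he : 0 < e) {k : ℕ} {a : A} (ha : a ∈ 𝒜 (k • e)) (h : a ∈ Jf I) :
    Away.mk 𝒜 hf k a ha ∈ I := by
  classical
  obtain ⟨n, hn⟩ := (mem_Jf_iff hf I).1 h
  have hm : f ^ n * a ∈ 𝒜 ((n + k) • e) := by
    rw [add_smul]; exact SetLike.mul_mem_graded (SetLike.pow_mem_graded n hf) ha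
  have h2 := comp_mem_of_mem_span hf I he hn 1 (n + k)
  have e2 : Away.mk 𝒜 hf (n + k) (decompose 𝒜 (1 * (f ^ n * a)) ((n + k) • e) : A) (SetLike.coe_mem _) =
      Away.mk 𝒜 hf k a ha := by
    apply HomogeneousLocalization.val_injective
    rw [Away.val_mk, Away.val_mk, one_mul, DirectSum.decompose_of_mem_same 𝒜 hm, Localization.mk_eq_mk_iff,
      Localization.r_iff_exists]
    exact ⟨1, by simp [pow_add]; ring⟩
  exact e2 ▸ h2

include hf in
/-- A surjective graded map whose kernel is between `J_f` and its saturation cuts out `I` on the chart. -/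
theorem ker_awayMap {B τ : Type u} [CommRing B] [SetLike τ B] [AddSubgroupClass τ B] {ℬ : ℕ → τ} [GradedRing ℬ]
    (φ : 𝒜 →+*ᵍ ℬ) (he : 0 < e) (h1 : ∀ a, φ a = 0 → a ∈ Jf I)
    (h2 : ∀ a, a ∈ Jf I → ∃ n : ℕ, φ (f ^ n * a) = 0) : RingHom.ker (Away.map φ f) = I := by
  ext z
  obtain ⟨k, a, ha, rfl⟩ := Away.mk_surjective 𝒜 hf z
  rw [RingHom.mem_ker]
  constructor
  · intro h
    have h' := congrArg HomogeneousLocalization.val h
    rw [Away.map_mk, Away.val_mk, val_zero, Localization.mk_eq_mk', IsLocalization.mk'_eq_zero_iff] at h'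
    obtain ⟨⟨_, n, rfl⟩, hn⟩ := h'
    change φ f ^ n * φ a = 0 at hn
    rw [← map_pow, ← map_mul] at hn
    exact mk_mem_of_mem_Jf hf I he ha (mem_Jf_of_mul_mem I n (h1 _ hn))
  · intro h
    obtain ⟨n, hn⟩ := h2 a (mem_Jf_of_mk hf I ha h)
    rw [map_mul, map_pow] at hn
    apply HomogeneousLocalization.val_injective
    rw [Away.map_mk, Away.val_mk, val_zero, Localization.mk_eq_mk', IsLocalization.mk'_eq_zero_iff]
    exact ⟨⟨_, n, rfl⟩, hn⟩

end basic

section functorial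

variable {A B σ τ : Type u} [CommRing A] [SetLike σ A] [AddSubgroupClass σ A] {𝒜 : ℕ → σ} [GradedRing 𝒜]
  [CommRing B] [SetLike τ B] [AddSubgroupClass τ B] {ℬ : ℕ → τ} [GradedRing ℬ]

/-- Extension along compatible maps. -/
theorem Kf_map {f : A} {f' : B} (I : Ideal (Away 𝒜 f)) (χ : Away 𝒜 f →+* Away ℬ f') (ω : A →+* B)
    (Λ : Localization.Away f →+* Localization.Away f')
    (hχ : ∀ z, (χ z).val = Λ z.val) (hΛ : ∀ a, Λ (algebraMap A _ a) = algebraMap B _ (ω a)) :
    Kf (I.map χ) = ((Jf I).map ω).map (algebraMap B (Localization.Away f')) := by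
  have h1 : (algebraMap (Away ℬ f') (Localization.Away f')).comp χ =
      Λ.comp (algebraMap (Away 𝒜 f) (Localization.Away f)) := RingHom.ext hχ
  have h2 : (algebraMap B (Localization.Away f')).comp ω = Λ.comp (algebraMap A (Localization.Away f)) :=
    RingHom.ext fun a => (hΛ a).symm
  rw [Kf, Ideal.map_map, h1, Ideal.map_map, h2, ← Ideal.map_map, ← Ideal.map_map, map_Jf]
  rfl

theorem map_mem_Jf {f : A} {f' : B} (I : Ideal (Away 𝒜 f)) (χ : Away 𝒜 f →+* Away ℬ f') (ω : A →+* B)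
    (Λ : Localization.Away f →+* Localization.Away f')
    (hχ : ∀ z, (χ z).val = Λ z.val) (hΛ : ∀ a, Λ (algebraMap A _ a) = algebraMap B _ (ω a))
    {x : A} (hx : x ∈ Jf I) : ω x ∈ Jf (I.map χ) := by
  rw [Jf, Ideal.mem_comap, Kf_map I χ ω Λ hχ hΛ]
  exact Ideal.mem_map_of_mem _ (Ideal.mem_map_of_mem _ hx)

theorem exists_pow_mul_mem_map {f : A} {f' : B} (I : Ideal (Away 𝒜 f)) (χ : Away 𝒜 f →+* Away ℬ f')
    (ω : A →+* B) (Λ : Localization.Away f →+* Localization.Away f')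
    (hχ : ∀ z, (χ z).val = Λ z.val) (hΛ : ∀ a, Λ (algebraMap A _ a) = algebraMap B _ (ω a))
    {y : B} (hy : y ∈ Jf (I.map χ)) : ∃ n : ℕ, f' ^ n * y ∈ (Jf I).map ω := by
  rw [Jf, Ideal.mem_comap, Kf_map I χ ω Λ hχ hΛ,
    IsLocalization.algebraMap_mem_map_algebraMap_iff (Submonoid.powers f')] at hy
  obtain ⟨_, ⟨n, rfl⟩, h⟩ := hy
  exact ⟨n, h⟩

section graded

variable (ψ : 𝒜 →+*ᵍ ℬ) {e : ℕ} {f : A} (hf : f ∈ 𝒜 e) (I : Ideal (Away 𝒜 f))

/-- The map of localisations. -/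
def locMap : Localization.Away f →+* Localization.Away (ψ f) :=
  Localization.awayLift ((algebraMap B (Localization.Away (ψ f))).comp (ψ : A →+* B)) f
    (IsLocalization.Away.algebraMap_isUnit (ψ f))

theorem locMap_algebraMap (a : A) : locMap ψ (f := f) (algebraMap A _ a) = algebraMap B _ (ψ a) :=
  IsLocalization.lift_eq _ a

include hf in
theorem val_awayMap_map (z : Away 𝒜 f) : (Away.map ψ f z).val = locMap ψ z.val := by
  obtain ⟨k, a, ha, rfl⟩ := Away.mk_surjective 𝒜 hf z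
  refine ((IsLocalization.Away.algebraMap_isUnit (S := Localization.Away (ψ f)) (ψ f)).pow k).mul_left_inj.1 ?_
  have h := congrArg (locMap ψ (f := f)) (val_mk_mul hf k a ha)
  rw [map_mul, locMap_algebraMap, locMap_algebraMap, map_pow] at h
  rw [← map_pow, Away.map_mk]
  exact (val_mk_mul (ψ.map_mem hf) k (ψ a) _).trans h.symm

include hf in
theorem res_mem_Jf {x : A} (hx : x ∈ Jf I) : ψ x ∈ Jf (I.map (Away.map ψ f)) :=
  map_mem_Jf I (Away.map ψ f) (ψ : A →+* B) (locMap ψ) (val_awayMap_map ψ hf) (locMap_algebraMap ψ) hx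

include hf in
theorem exists_mul_mem_of_res {c : 𝒜 0} (hc : RelProj.Localize.IsLocHom ψ c) {x : A}
    (hx : ψ x ∈ Jf (I.map (Away.map ψ f))) : ∃ n : ℕ, (c : A) ^ n * x ∈ Jf I := by
  letI := ψ.toRingHom.toAlgebra
  haveI : IsLocalization.Away (c : A) B := hc
  obtain ⟨n, hn⟩ := exists_pow_mul_mem_map I (Away.map ψ f) (ψ : A →+* B) (locMap ψ) (val_awayMap_map ψ hf)
    (locMap_algebraMap ψ) hx
  have hn' : algebraMap A B (f ^ n * x) ∈ (Jf I).map (algebraMap A B) := by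
    rw [map_mul, map_pow]; exact hn
  obtain ⟨_, ⟨m, rfl⟩, hm⟩ :=
    (IsLocalization.algebraMap_mem_map_algebraMap_iff (Submonoid.powers (c : A)) B _ _).1 hn'
  refine ⟨m, mem_Jf_of_mul_mem I n ?_⟩
  rwa [mul_left_comm] at hm

end graded

section mul

variable {A σ : Type u} [CommRing A] [SetLike σ A] [AddSubgroupClass σ A] {𝒜 : ℕ → σ} [GradedRing 𝒜]
  {d : ℕ} {f g x : A} (hg : g ∈ 𝒜 d) (hx : x = f * g) (I : Ideal (Away 𝒜 f))

/-- `A_f → A_{fg}`. -/
def mulMap : Localization.Away f →+* Localization.Away x :=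
  Localization.awayLift (algebraMap A _) _
    (isUnit_of_dvd_unit (map_dvd _ ⟨g, hx⟩) (IsLocalization.Away.algebraMap_isUnit x))

theorem mulMap_algebraMap (a : A) : mulMap hx (algebraMap A _ a) = algebraMap A _ a :=
  IsLocalization.lift_eq _ a

theorem mem_Jf_mul {a : A} (ha : a ∈ Jf I) : a ∈ Jf (I.map (awayMap 𝒜 hg hx)) :=
  map_mem_Jf I _ (RingHom.id A) (mulMap hx) (val_awayMap 𝒜 hg hx) (mulMap_algebraMap hx) ha

theorem exists_pow_mul_mem {a : A} (ha : a ∈ Jf (I.map (awayMap 𝒜 hg hx))) :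
    ∃ n : ℕ, g ^ n * a ∈ Jf I := by
  obtain ⟨n, hn⟩ :=
    exists_pow_mul_mem_map I _ (RingHom.id A) (mulMap hx) (val_awayMap 𝒜 hg hx) (mulMap_algebraMap hx) ha
  refine ⟨n, mem_Jf_of_mul_mem I n ?_⟩
  rw [Ideal.map_id, hx, mul_pow, mul_assoc] at hn
  exact hn

end mul

end functorial

section family

variable {A σ : Type u} [CommRing A] [SetLike σ A] [AddSubgroupClass σ A] (𝒜 : ℕ → σ) [GradedRing 𝒜]

/-- A homogeneous element of positive degree. -/
@[ext] structure Hom where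
  e : ℕ
  pos : 0 < e
  f : A
  mem : f ∈ 𝒜 e

/-- A family of ideals on the charts, compatible on overlaps. -/
structure Compat where
  I : ∀ t : Hom 𝒜, Ideal (Away 𝒜 t.f)
  map_left : ∀ (t s : Hom 𝒜), (I t).map (awayMap 𝒜 s.mem (rfl : t.f * s.f = t.f * s.f)) =
    I ⟨t.e + s.e, Nat.add_pos_left t.pos _, t.f * s.f, SetLike.mul_mem_graded t.mem s.mem⟩
  map_right : ∀ (t s : Hom 𝒜), (I s).map (awayMap 𝒜 t.mem (mul_comm t.f s.f : t.f * s.f = s.f * t.f)) =
    I ⟨t.e + s.e, Nat.add_pos_left t.pos _, t.f * s.f, SetLike.mul_mem_graded t.mem s.mem⟩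

variable {𝒜} (F : Compat 𝒜)

/-- The ideal of the family. -/
def Compat.J : Ideal A := ⨅ t : Hom 𝒜, Jf (F.I t)

theorem Compat.isHomogeneous_J : F.J.IsHomogeneous 𝒜 :=
  Ideal.IsHomogeneous.iInf fun t => isHomogeneous_Jf t.mem (F.I t)

theorem Compat.mem_J_iff {x : A} : x ∈ F.J ↔ ∀ t, x ∈ Jf (F.I t) := Submodule.mem_iInf _

theorem Compat.exists_pow_mul_mem {t s : Hom 𝒜} {x : A} (hx : x ∈ Jf (F.I s)) :
    ∃ n : ℕ, s.f ^ n * x ∈ Jf (F.I t) := by
  refine Sat.exists_pow_mul_mem s.mem (rfl : t.f * s.f = t.f * s.f) (F.I t) ?_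
  rw [F.map_left t s, ← F.map_right t s]
  exact mem_Jf_mul t.mem _ _ hx

/-- A covering family suffices. -/
theorem Compat.mem_of_family (T : Set (Hom 𝒜))
    (hT : ∀ t : Hom 𝒜, t.f ∈ (Ideal.span ((fun s => s.f) '' T)).radical)
    {x : A} (hx : ∀ s ∈ T, x ∈ Jf (F.I s)) : x ∈ F.J := by
  refine F.mem_J_iff.2 fun t => ?_
  have h : (Ideal.span ((fun s : Hom 𝒜 => s.f) '' T)) ≤
      ((Jf (F.I t)).colon ({x} : Set A)).radical := by
    rw [Ideal.span_le]
    rintro _ ⟨s, hs, rfl⟩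
    obtain ⟨n, hn⟩ := F.exists_pow_mul_mem (t := t) (hx s hs)
    exact ⟨n, Submodule.mem_colon_singleton.2 hn⟩
  obtain ⟨m, hm⟩ := (Ideal.radical_mono h).trans_eq (Ideal.radical_idem _) (hT t)
  exact mem_Jf_of_mul_mem (F.I t) m (Submodule.mem_colon_singleton.1 hm)

/-- Uniform exponent for membership in the ideal. -/
theorem Compat.exists_pow_mul_mem_J (T : Finset (Hom 𝒜))
    (hT : ∀ t : Hom 𝒜, t.f ∈ (Ideal.span ((fun s => s.f) '' (T : Set (Hom 𝒜)))).radical)
    (c : A) {x : A} (h : ∀ s ∈ T, ∃ n : ℕ, c ^ n * x ∈ Jf (F.I s)) : ∃ n : ℕ, c ^ n * x ∈ F.J := by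
  choose! n hn using h
  refine ⟨T.sup n, F.mem_of_family (T : Set (Hom 𝒜)) hT fun s hs => ?_⟩
  obtain ⟨k, hk⟩ := Nat.exists_eq_add_of_le (Finset.le_sup (f := n) hs)
  rw [hk, pow_add, mul_comm (c ^ n s), mul_assoc]
  exact Ideal.mul_mem_left _ _ (hn s hs)

end family

end Groth.Agent.H81.ProjClosed.Sat
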